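import Cfsg.Agent.T44.Spor.Two
import Cfsg.Agent.T44.Spor.GeoM
import Cfsg.Agent.DS.Ord.SDO
import Cfsg.Agent.H810.RIM.BCent
import Cfsg.Agent.H979.OddB
import Cfsg.Agent.NotCT.Orders
import Cfsg.Agent.S2084

/-!
# S3544, sporadic rows: the Baby Monster (helper35)
-/

set_option autoImplicit false
set_option linter.style.haveILetI false

namespace Cfsg.Agent.T44.Spor

open Subgroup Cfsg Cfsg.Agent.R2.M7

variable {G : Type} [Group G] [Finite G] {T H Q : Subgroup G} {r : ℕ} {Ya Yb : Set G} {da db : ℕ}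

/-- no outer automorphisms -/
theorem eq_top_of_out (h : AS T H Q r Ya Yb da db) {Y : Type*} [Group Y] (e : Nonempty (T ≃* Y))
    (hY : Nat.card (Cfsg.Out Y) = 1) : T = ⊤ := by
  have hd := DS.Ord.card_dvd_of_setup ⟨h.normal, h.simple, h.noncomm, h.centT, h.coatom, h.not_T_le⟩
  rw [Nat.dvd_one.1 (DS.Ord.card_out_of e hY), mul_one] at hd
  exact eq_top_of_le_card T (Nat.le_of_dvd Nat.card_pos hd)

/-- from the double cover -/
theorem false_of_cover {M : Type} [Group M] [Finite M] {Γ : Geo M} (X : YF Γ) {t : M} (ht : t * t = 1)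
    (htP : t ∉ Γ.Pt) (q : centralizer ({t} : Set M) →* G) (hq : Function.Surjective q)
    (hk : ∀ x, q x = 1 ↔ (x : M) = 1 ∨ (x : M) = t) (h : Cfg ⊤ H Q 2 Ya Yb da db) (h5 : 5 ^ 3 ∣ Nat.card H) :
    False := by
  let C := centralizer ({t} : Set M)
  have htC : t ∈ C := mem_centralizer_singleton_iff.2 rfl
  let L : Subgroup G → Subgroup M := fun K => (K.comap q).map C.subtype
  have mem : ∀ (K : Subgroup G) (x : M), x ∈ L K ↔ ∃ hx : x ∈ C, q ⟨x, hx⟩ ∈ K := by
    intro K x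
    constructor
    · rintro ⟨y, hy, rfl⟩
      exact ⟨y.2, hy⟩
    · rintro ⟨hx, h⟩
      exact ⟨⟨x, hx⟩, h, rfl⟩
  have hker : IsPGroup 2 q.ker := by
    intro x
    refine ⟨1, Subtype.ext (Subtype.ext ?_)⟩
    change ((x : C) : M) ^ 2 ^ 1 = 1
    rw [pow_one, pow_two]
    rcases (hk x).1 x.2 with h | h <;> rw [h]
    · exact mul_one 1
    · exact ht
  have htQ : t ∈ L Q := (mem _ t).2 ⟨htC, by rw [(hk _).2 (Or.inr rfl)]; exact one_mem _⟩
  obtain ⟨y, hy⟩ := h.A.ne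
  obtain ⟨y, rfl⟩ := hq y
  refine X.false_B ht htP (T := L Q) (H := L H) ((h.isO.pg.comap_of_ker_isPGroup q hker).map _) (fun g hg => ?_)
    (map_mono (comap_mono h.Q_le_H)) ?_ (map_subtype_le _) (h5.trans ?_) ?_ ?_ y.2 ?_ ?_
  · have h1 : g ∈ C := mem_centralizer_singleton_iff.2 (mem_centralizer_iff.1 hg t htQ).symm
    refine (mem _ g).2 ⟨h1, h.cent_Q ⟨trivial, mem_centralizer_iff.2 fun x hx => ?_⟩⟩
    obtain ⟨x, rfl⟩ := hq x
    rw [← map_mul, ← map_mul]
    exact congrArg q (Subtype.ext (mem_centralizer_iff.1 hg x ⟨x, hx, rfl⟩))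
  · refine norm_of_conj ?_
    rintro _ ⟨g, hg, rfl⟩ _ ⟨x, hx, rfl⟩
    refine ⟨g * x * g⁻¹, ?_, rfl⟩
    change q (g * x * g⁻¹) ∈ Q
    rw [map_mul, map_mul, map_inv]
    exact conj_mem_of_norm h.H_norm_Q hg hx
  · change _ ∣ Nat.card ((H.comap q).map C.subtype)
    rw [card_map_of_injective C.subtype_injective]
    conv_lhs => rw [← map_comap_eq_self_of_surjective hq H]
    exact card_map_dvd _ _
  · rintro _ ⟨z, hz, rfl⟩ hz1 hzt hH g ⟨hg, hgC⟩
    have key : ∀ x : C, (x : M) ∈ centralizer ({(z : M)} : Set M) → q x ∈ centralizer (zpowers (q z) : Set G) := by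
      intro x hx
      rw [cent_zpowers, mem_centralizer_singleton_iff, ← map_mul, ← map_mul]
      exact congrArg q (Subtype.ext (mem_centralizer_singleton_iff.1 hx))
    refine (mem _ g).2 ⟨hgC, h.cent_le (zpowers_le.2 (h.Q_le_H hz)) (fun e => ?_) (fun x hx => ?_) (key ⟨g, hgC⟩ hg)⟩
    · exact ((hk z).1 (zpowers_eq_bot.1 e)).elim hz1 hzt
    · obtain ⟨x, rfl⟩ := hq x
      exact centralizer_le_normalizer _ (key x (hH ⟨x, hx, rfl⟩))
  · intro R hR hp hn x hx
    obtain ⟨hxC, -⟩ := (mem _ x).1 (hR hx)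
    refine (mem _ x).2 ⟨hxC, h.isO.max ((R.subgroupOf C).map q) ?_ (hp.comap_subtype.map q) (norm_of_conj ?_)
      ⟨⟨x, hxC⟩, hx, rfl⟩⟩
    · rintro _ ⟨w, hw, rfl⟩
      exact ⟨trivial, ((mem _ w).1 (hR hw)).2⟩
    · rintro g hg _ ⟨w, hw, rfl⟩
      obtain ⟨g, rfl⟩ := hq g
      exact ⟨g * w * g⁻¹, conj_mem_of_norm (G := M) hn ⟨g, hg.2, rfl⟩ hw, by rw [map_mul, map_mul, map_inv]⟩
  · exact fun e => h.A.notMem _ hy ((mem _ _).1 e).2
  · rintro _ ⟨x, hx, rfl⟩
    refine mem_cj.2 ⟨y⁻¹ * x * y, ?_, rfl⟩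
    change q (y⁻¹ * x * y) ∈ H
    rw [map_mul, map_mul, map_inv]
    exact mem_cj.1 (h.Q_le_cj hy hx)

/-- **the Baby Monster** -/
theorem row_b (h : AS T H Q r Ya Yb da db) (e : Spor.IsoB T) : False := by
  have d : Dat T 4154781481226426191177580544000000 [(5, 3, 3), (7, 3, 5)] [] := by
    refine dat_of (MulEquiv.refl T) (NotCT.Orders.b e) (by decide +kernel) ?_ fun _ hc => absurd hc List.not_mem_nil
    intro c hc y hy hd
    simp only [List.mem_cons, List.not_mem_nil, or_false] at hc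
    rcases hc with rfl | rfl
    · rcases H810.RIM.BCent.five_dvd e hy with h1 | h1 | h1 <;>
        exact absurd ((hd.trans (dvd_mul_right _ 2)).trans h1) (by norm_num)
    · exact absurd (hd.trans (H810.RIM.BCent.seven_dvd e hy)) (by norm_num)
  obtain rfl : r = 2 := List.mem_singleton.1 (d.mem_ex h.toCfg (ex := [2]) (by decide +kernel))
  have h5 : 5 ^ 3 ∣ Nat.card H := by
    refine Dvd.dvd.trans ?_ (card_dvd_of_le (inf_le_right : T ⊓ H ≤ H))
    rcases d.two h.toCfg (s := 3) (t := 5) (by decide +kernel) with ⟨-, g, -⟩ | ⟨-, g, -⟩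
    · exact d.cube_of h.toCfg g (by decide +kernel)
    · exact d.cube_of h.toCfg.symm g (by decide +kernel)
  obtain rfl := eq_top_of_out h e S2084.result
  have hG : Spor.IsoB G := e.elim fun e => ⟨topEquiv.symm.trans e⟩
  obtain ⟨t, ht, h2, ⟨e⟩⟩ := H979.OddB.exists_cover hG
  obtain ⟨Γ, X, hΓ⟩ := exists_yf
  haveI := Cfsg.Agent.R2.H4.Mon.MonFr.finite_model
  have ht' := hΓ t ht
  refine false_of_cover X ht'.1 ht'.2.2 (e.toMonoidHom.comp (QuotientGroup.mk' _))
    (e.surjective.comp (QuotientGroup.mk'_surjective _)) (fun x => ?_) h.toCfg h5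
  have h3 : zpowers (⟨t, mem_centralizer_singleton_iff.2 rfl⟩ : centralizer {t}) = center _ := by
    refine eq_of_le_of_card_ge (zpowers_le.2 (mem_center_iff.2 fun g =>
      Subtype.ext (mem_centralizer_singleton_iff.1 g.2))) ?_
    rw [h2, Nat.card_zpowers, ← Subgroup.orderOf_coe, orderOf_eq_prime (p := 2) (by rw [pow_two]; exact ht'.1) ht'.2.1]
  rw [MonoidHom.comp_apply, MulEquiv.coe_toMonoidHom, map_eq_one_iff e e.injective, QuotientGroup.mk'_apply,
    QuotientGroup.eq_one_iff, ← h3]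
  constructor
  · rintro ⟨k, rfl⟩
    have h4 : t ^ (2 : ℤ) = 1 := by rw [zpow_two]; exact ht'.1
    change t ^ k = 1 ∨ t ^ k = t
    rcases Int.emod_two_eq_zero_or_one k with h5 | h5
    · left
      rw [zpow_eq_zpow_emod k h4, h5, zpow_zero]
    · right
      rw [zpow_eq_zpow_emod k h4, h5, zpow_one]
  · rintro (h4 | h4)
    · rw [show x = 1 from Subtype.ext h4]
      exact one_mem _
    · rw [show x = ⟨t, mem_centralizer_singleton_iff.2 rfl⟩ from Subtype.ext h4]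
      exact mem_zpowers _

end Cfsg.Agent.T44.Spor
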