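import Cfsg.Agent.T44.Spor.Co
import Cfsg.Agent.H187.Ore.HN15
import Cfsg.Agent.H171.Odd.SuzFive

/-!
# S3544, sporadic rows: `Suz`, `HN` (helper35)
-/

set_option autoImplicit false
set_option maxRecDepth 100000

namespace Cfsg.Agent.T44.Spor

open Subgroup Cfsg

/-- a central element of order `p` in a subgroup of order `p ^ (k + 1)` -/
theorem exists_central {X : Type*} [Group X] [Finite X] {p k : ℕ} (hp : p.Prime) {A : Subgroup X}
    (h : p ^ (k + 1) ∣ Nat.card A) :
    ∃ P : Subgroup X, P ≤ A ∧ Nat.card P = p ^ (k + 1) ∧ ∃ z ∈ P, orderOf z = p ∧ ∀ u ∈ P, u * z = z * u := by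
  have : Fact p.Prime := ⟨hp⟩
  obtain ⟨P, hP⟩ := Sylow.exists_subgroup_card_pow_prime p h
  have h1 : Nat.card (P.map A.subtype) = p ^ (k + 1) := by rw [card_map_of_injective A.subtype_injective, hP]
  generalize hQ : P.map A.subtype = Q at h1
  have hQA : Q ≤ A := hQ ▸ map_subtype_le P
  have hQp : IsPGroup p Q := IsPGroup.of_card h1
  have hnt : Nontrivial Q := by
    rw [← Finite.one_lt_card_iff_nontrivial, h1]
    exact Nat.one_lt_pow (Nat.succ_ne_zero k) hp.one_lt
  have hcn : Nontrivial (center Q) := hQp.center_nontrivial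
  have hcd : p ∣ Nat.card (center Q) := by
    obtain ⟨n, hn⟩ := IsPGroup.iff_card.1 (hQp.to_subgroup (center Q))
    rw [hn]
    rcases n with _ | n
    · rw [pow_zero] at hn
      exact absurd hn (Finite.one_lt_card_iff_nontrivial.2 hcn).ne'
    · exact dvd_pow_self p (Nat.succ_ne_zero n)
  obtain ⟨z, hz⟩ := exists_prime_orderOf_dvd_card' p hcd
  refine ⟨Q, hQA, h1, ((z : Q) : X), (z : Q).2, by rw [orderOf_coe, orderOf_coe, hz], fun u hu => ?_⟩
  exact congrArg Subtype.val (mem_center_iff.1 z.2 ⟨u, hu⟩)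

section hn

open Cfsg.Agent.CpAutHN.Pairs
open Cfsg.Agent.H569.HNThree (MM ss)
open Cfsg.Agent.H478.HNThree
open Cfsg.Agent.H701.Wf.HN (ff ff_ker mk_mul)
open Cfsg.Agent.H187.Ore.HN15

attribute [local instance] Cfsg.Agent.H569.HNThree.finite_G

theorem hn_mem {y u : MM} (hy : orderOf y = 5) {k : ℕ} (hu : u ^ 3 ^ k = 1) (hc : y * u = u * y) :
    u ∈ zpowers xx := by
  have h1 : orderOf (ff u) ∣ 3 ^ k := orderOf_dvd_of_pow_eq_one (by rw [← map_pow, hu, map_one])
  have h2 : orderOf (ff u) ∣ 3 * 20 := by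
    have h := orderOf_dvd_natCard (ff u)
    rwa [H991.SN.HN.card_A5] at h
  have h3 : orderOf (ff u) ∣ 3 :=
    (Nat.Coprime.coprime_dvd_left h1 (Nat.Coprime.pow_left k (by norm_num))).dvd_of_dvd_mul_right h2
  have hy5 : y ^ 5 = 1 := by rw [← hy, pow_orderOf_eq_one]
  have h4 : ff u = 1 := A5_three (ff y) (ff u) (by rw [← map_pow, hy5, map_one]) (ff_ne hy)
    (orderOf_dvd_iff_pow_eq_one.1 h3) (by rw [← map_mul, hc, map_mul])
  refine mem_of_comm hy ?_ hc
  rcases ff_ker h4 with h | ⟨o, ho, rfl⟩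
  · exact h
  exfalso
  apply ss_not_mem
  have h5 := mk_mul ho ss
  have h6 : orderOf (QuotientGroup.mk' OO ss) ∣ 3 ^ k :=
    orderOf_dvd_of_pow_eq_one (by rw [← h5, ← map_pow, hu, map_one])
  have h7 : orderOf (QuotientGroup.mk' OO ss) ∣ 2 :=
    orderOf_dvd_of_pow_eq_one (by rw [← map_pow, pow_two, ss_mul, map_one])
  have h8 := Nat.dvd_gcd h6 h7
  rw [Nat.Coprime.pow_left k (by norm_num : Nat.Coprime 3 2), Nat.dvd_one, orderOf_eq_one_iff] at h8
  exact (QuotientGroup.eq_one_iff _).1 h8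

theorem hn_five {y : Spor.HN} (hy : orderOf y = 5) : ¬ 3 ^ (3 + 1) ∣ Nat.card (centralizer ({y} : Set Spor.HN)) := by
  intro hd
  obtain ⟨P, hP, hc, z, hz, ho, hzc⟩ := exists_central Nat.prime_three hd
  have hzy : z * y = y * z := mem_centralizer_singleton_iff.1 (hP hz)
  have hyo : ∀ c : G, orderOf (c * y * c⁻¹) = 5 := fun c => by rw [orderOf_conj, hy]
  have hcard : ∀ c : G, Nat.card (P.map (MulAut.conj c).toMonoidHom) = 3 ^ (3 + 1) := fun c => by
    rw [card_map_of_injective (MulAut.conj c).injective, hc]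
  rcases types ho hy hzy with ⟨c, h⟩ | ⟨c, h⟩
  · have h1 : c * y * c⁻¹ * X1 = X1 * (c * y * c⁻¹) := by rw [← h]; exact conj_comm c hzy.symm
    have h2 := card_X1y (hyo c) h1
    have h3 : 3 ^ (3 + 1) ∣ Nat.card (centralizer ({X1 * (c * y * c⁻¹)} : Set G)) := by
      rw [← hcard c]
      refine card_dvd_of_le ?_
      rintro _ ⟨u, hu, rfl⟩
      have e1 : Commute (c * u * c⁻¹) X1 := by rw [← h]; exact conj_comm c (hzc u hu)
      have e2 : Commute (c * u * c⁻¹) (c * y * c⁻¹) := conj_comm c (mem_centralizer_singleton_iff.1 (hP hu))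
      exact mem_centralizer_singleton_iff.2 (e1.mul_right e2).eq
    have h4 : 5 ∣ Nat.card (centralizer ({X1 * (c * y * c⁻¹)} : Set G)) := by
      rw [← hyo c]
      refine Subgroup.orderOf_dvd_natCard _ (mem_centralizer_singleton_iff.2 ?_)
      exact ((show Commute (c * y * c⁻¹) X1 from h1).mul_right (Commute.refl _)).eq
    have h5 := Nat.le_of_dvd Nat.card_pos (Nat.Coprime.mul_dvd_of_dvd_of_dvd (by norm_num) h3 h4)
    omega
  · have m2 : c * y * c⁻¹ ∈ MM := mem_centralizer_singleton_iff.2 (by rw [← h]; exact conj_comm c hzy.symm)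
    have h3 : P.map (MulAut.conj c).toMonoidHom ≤ zpowers X3 := by
      rintro _ ⟨u, hu, rfl⟩
      have m1 : c * u * c⁻¹ ∈ MM := mem_centralizer_singleton_iff.2 (by rw [← h]; exact conj_comm c (hzc u hu))
      have e1 : u ^ 3 ^ (3 + 1) = 1 := by
        rw [← hc]
        exact congrArg Subtype.val (pow_card_eq_one' (x := (⟨u, hu⟩ : P)))
      obtain ⟨n, hn⟩ := hn_mem (y := ⟨_, m2⟩) (u := ⟨_, m1⟩) (k := 3 + 1) (by rw [orderOf_mk, hyo])
        (Subtype.ext (by change (c * u * c⁻¹) ^ _ = 1; rw [conj_pow, e1, mul_one, mul_inv_cancel]))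
        (Subtype.ext (conj_comm c (mem_centralizer_singleton_iff.1 (hP hu)).symm))
      exact ⟨n, congrArg Subtype.val hn⟩
    have h4 := card_dvd_of_le h3
    rw [hcard, Nat.card_zpowers, order_X3] at h4
    norm_num at h4

end hn

variable {G : Type*} [Group G] [Finite G] {T H Q : Subgroup G} {r : ℕ} {Ya Yb : Set G} {da db : ℕ}
  (h : Cfg T H Q r Ya Yb da db)

include h

theorem row_suz (e : Spor.IsoSuz T) : False := by
  refine false_of_cb h (MulEquiv.refl T) (NotCT.Orders.suz e) (cb := [(5, 3, 3)]) ?_ (by decide +kernel)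
  intro c hc y hy
  obtain rfl := List.mem_singleton.1 hc
  exact fun hd => H171.Odd.SuzFive.suz_five e hy ((pow_dvd_pow 3 (by norm_num)).trans hd)

theorem row_hn (e : Spor.IsoHN T) : False := by
  refine e.elim fun f => false_of_cb h f (NotCT.Orders.hn e) (cb := [(5, 3, 3)]) ?_ (by decide +kernel)
  intro c hc y hy
  obtain rfl := List.mem_singleton.1 hc
  exact hn_five hy

end Cfsg.Agent.T44.Spor
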