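import Cfsg.Agent.T44.Spor.Baby
import Cfsg.Agent.T44.Red
import Cfsg.Agent.SP.Mon.NL.Cent
import Cfsg.Agent.MonsterP.Equiv
import Cfsg.Agent.S2085

/-!
# S3544, sporadic rows: the Monster (helper35)
-/

set_option autoImplicit false
set_option linter.style.haveILetI false

namespace Cfsg.Agent.T44.Spor

open Subgroup Cfsg Cfsg.Agent.R2.M7
open Cfsg.Agent.BpSpor.MBigModel (MG)

variable {G : Type} [Group G] [Finite G] {T H Q : Subgroup G} {r : ℕ} {Ya Yb : Set G} {da db : ℕ}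

omit [Finite G] in
/-- transport along an isomorphism -/
theorem cfg_map {G' : Type*} [Group G'] (e : G ≃* G') (h : Cfg ⊤ H Q r Ya Yb da db) :
    ∃ (H' Q' : Subgroup G') (Ya' Yb' : Set G'), Cfg ⊤ H' Q' r Ya' Yb' da db := by
  have hmem : ∀ t ∈ (⊤ : Subgroup G), e.toMonoidHom t ∈ H.map e.toMonoidHom → t ∈ H := by
    rintro t - ⟨s, hs, e'⟩
    rwa [← e.injective e']
  have A' := h.A.map hmem
  have B' := h.B.map hmem
  have ch := h.chR
  have ne := h.M_ne
  rw [top_inf_eq] at ch ne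
  rw [map_top_of_surjective _ e.surjective] at A' B'
  refine ⟨_, _, _, _, Cfg.of_chR inferInstance ?_ ?_ h.prime ?_ ?_ A' B' h.cop h.ra h.rb⟩
  · exact ((e.mapSubgroup).isCoatom_iff H).2 h.coatom
  · rw [eq_bot_iff]
    intro x hx
    obtain ⟨x, rfl⟩ := e.surjective x
    have : x ∈ H.normalCore := fun b => hmem _ trivial (by simpa using hx (e b))
    rw [h.core, mem_bot] at this
    rw [this, map_one]
    exact one_mem _
  · rw [top_inf_eq]
    exact ch.map fun s _ t _ e' => e.injective e'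
  · rw [top_inf_eq]
    exact fun e' => ne ((map_eq_bot_iff_of_injective _ e.injective).1 e')

/-- **the Monster** -/
theorem row_m (cf : CF) (h : AS T H Q r Ya Yb da db) (e : Spor.IsoM T) : False := by
  obtain ⟨e1⟩ := id e
  obtain ⟨e2⟩ := MonsterP.Equiv.equiv
  let f : T ≃* MG := e1.trans e2
  have d : Dat T nM cbM [] := by
    refine dat_of f BpSpor.MBigModel.card_M (by decide +kernel) ?_ fun _ hc => absurd hc List.not_mem_nil
    intro c hc y hy hd
    have key : ∀ c ∈ cbM, c.1.Prime ∧ c.1 ≠ 2 ∧ ∀ a ∈ SP.Mon.NL.tabE ++ SP.Mon.NL.tabO, a.1 = c.1 →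
        ¬ c.2.1 ^ (c.2.2 + 1) ∣ a.2 := by decide +kernel
    obtain ⟨h1, h2, h3⟩ := key c hc
    obtain ⟨n, h4, h5⟩ := SP.Mon.NL.cent_all cf h1 h2 hy
    exact h3 _ h4 rfl (hd.trans h5)
  have h7 : Sev T := by
    intro x hx ho h2 hd
    rw [card_cent_eq f ⟨x, hx⟩] at h2 hd
    obtain ⟨n, h4, h5⟩ := SP.Mon.NL.cent_E cf (p := 7) (by norm_num) (by norm_num)
      (by rw [MulEquiv.orderOf_eq, ← orderOf_coe]; exact ho) (Or.inr h2)
    have key : ∀ a ∈ SP.Mon.NL.tabE, a.1 = 7 → ¬ 3 ^ (5 + 1) ∣ a.2 := by decide +kernel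
    exact key _ h4 rfl (hd.trans h5)
  obtain rfl := eq_two_of_M d h7 h.toCfg
  obtain rfl := eq_top_of_out h e S2085.result
  obtain ⟨H', Q', Ya', Yb', h'⟩ := cfg_map (topEquiv.symm.trans f) h.toCfg
  obtain ⟨Γ, X, -⟩ := exists_yf
  haveI := BpSpor.MBigModel.finite
  exact X.false_M h'

end Cfsg.Agent.T44.Spor
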