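import Cfsg.Agent.T44.Spor.Easy
import Cfsg.Agent.T44.Spor.HN
import Cfsg.Agent.T44.Spor.Fi
import Cfsg.Agent.T44.Spor.Baby
import Cfsg.Agent.T44.Spor.Mon

/-!
# S3544: the sporadic box (helper35)
-/

set_option autoImplicit false

namespace Cfsg.Agent.T44.Spor

theorem boxSpor : BoxSpor := by
  intro cf G _ _ T H Q r Ya Yb da db h e
  have c := h.toCfg
  rcases e with e | e | e | e | e | e | e | e | e | e | e | e | e | e | e | e | e | e | e | e | e | e | e | e | e | e
  · exact row_m11 c e
  · exact row_m12 c e
  · exact row_m22 c e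
  · exact row_m23 c e
  · exact row_m24 c e
  · exact row_j1 c e
  · exact row_j2 c e
  · exact row_j3 c e
  · exact row_j4 c e
  · exact row_co1 c e
  · exact row_co2 c e
  · exact row_co3 c e
  · exact row_mcl c e
  · exact row_hs c e
  · exact row_suz c e
  · exact row_he c e
  · exact row_ru c e
  · exact row_on c e
  · exact row_ly c e
  · exact row_fi22 c e
  · exact row_fi23 c e
  · exact row_fi24 c e
  · exact row_hn c e
  · exact row_th c e
  · exact row_b h e
  · exact row_m cf h e

end Cfsg.Agent.T44.Spor
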