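import Cfsg.Agent.T44.Num
import Cfsg.Agent.S0023
import Cfsg.Agent.S0058
import Cfsg.Agent.S0126
import Cfsg.Agent.H565.RankTwo

/-!
# S3544, sporadic rows: coprime action on an `r`-group (helper35)

* `gl_dvd` : `|P : C_P(Q)|` divides `GLp r m = (r - 1) ... (r ^ m - 1)` if `|Q| = r ^ m`;
* `exists_mod` : a non-trivial action of a `t`-group on a `p`-group `S` gives `t ∣ p ^ j - 1`, `p ^ j ∣ |S|`;
* `exists_pair` : a non-cyclic `t`-group acting faithfully;
* `false_of_cube` : a group of order `t ^ 3` acting faithfully on a small `r`-group.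
-/

set_option autoImplicit false

namespace Cfsg.Agent.T44.Spor

open Subgroup Cfsg
open scoped commutatorElement

variable {G : Type*} [Group G]

/-- the part of `|GL_m(r)|` prime to `r` -/
def GLp (r m : ℕ) : ℕ := ∏ k ∈ Finset.range m, (r ^ (k + 1) - 1)

theorem GLp_dvd (r : ℕ) {m n : ℕ} (h : m ≤ n) : GLp r m ∣ GLp r n := by
  obtain ⟨d, rfl⟩ := Nat.exists_eq_add_of_le h
  unfold GLp
  rw [Finset.prod_range_add]
  exact dvd_mul_right _ _

theorem dvd_card_of_index {A X : Type*} [Group A] [MulAction A X] [Finite X] {m : ℕ}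
    (h : ∀ x : X, m ∣ (MulAction.stabilizer A x).index) : m ∣ Nat.card X := by
  classical
  rw [Nat.card_congr (MulAction.selfEquivSigmaOrbits A X)]
  have hfin : Finite (MulAction.orbitRel.Quotient A X) := Quotient.finite _
  have := Fintype.ofFinite (MulAction.orbitRel.Quotient A X)
  rw [Nat.card_sigma]
  refine Finset.dvd_sum fun ω _ => ?_
  have h1 := h ω.out
  rwa [MulAction.index_stabilizer] at h1

/-- `P` acts by conjugation on `Q` outside `R` -/
theorem dvd_sub [Finite G] {P Q R : Subgroup G} (hQ : P ≤ normalizer (Q : Set G)) (hR : P ≤ normalizer (R : Set G))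
    (hRQ : R ≤ Q) {m : ℕ} (h : ∀ y ∈ Q, y ∉ R → m ∣ (centralizer {y}).relIndex P) :
    m ∣ Nat.card Q - Nat.card R := by
  classical
  let X := {y : G // y ∈ Q ∧ y ∉ R}
  let _ : MulAction P X :=
    { smul := fun t y => ⟨t * y * (t : G)⁻¹, (mem_normalizer_iff.1 (hQ t.2) y).1 y.2.1,
        fun h5 => y.2.2 ((mem_normalizer_iff.1 (hR t.2) y).2 h5)⟩
      one_smul := fun y => Subtype.ext (by show (1 : G) * y * (1 : G)⁻¹ = y; rw [one_mul, inv_one, mul_one])
      mul_smul := fun s t a => Subtype.ext (by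
        show ((s * t : P) : G) * a * ((s * t : P) : G)⁻¹ = s * (t * a * (t : G)⁻¹) * (s : G)⁻¹
        rw [Subgroup.coe_mul]; group) }
  have hsm : ∀ (t : P) (y : X), ((t • y : X) : G) = t * y * (t : G)⁻¹ := fun _ _ => rfl
  have h1 : m ∣ Nat.card X := by
    refine dvd_card_of_index (A := P) fun y => ?_
    have h2 : MulAction.stabilizer P y = (centralizer {(y : G)}).subgroupOf P := by
      ext t
      rw [MulAction.mem_stabilizer_iff, mem_subgroupOf, mem_centralizer_singleton_iff, ← Subtype.coe_inj, hsm,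
        mul_inv_eq_iff_eq_mul]
    rw [h2]
    exact h y y.2.1 y.2.2
  have h2 : Nat.card X = Nat.card Q - Nat.card R :=
    Set.ncard_sdiff (s := (R : Set G)) (t := (Q : Set G)) (fun y hy => hRQ hy)
  rwa [← h2]

theorem card_inf_mul (X P : Subgroup G) : Nat.card (X ⊓ P : Subgroup G) * X.relIndex P = Nat.card P := by
  rw [← inf_relIndex_right]
  exact card_mul_relIndex inf_le_right

theorem norm_inf_cent {P Q U : Subgroup G} (hQ : P ≤ normalizer (Q : Set G)) (hU : P ≤ normalizer (U : Set G)) :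
    P ≤ normalizer ((Q ⊓ centralizer (U : Set G) : Subgroup G) : Set G) := norm_inf hQ (norm_centralizer hU)

theorem norm_cent_single {P : Subgroup G} {x : G} (h : ∀ g ∈ P, g * x = x * g) :
    P ≤ normalizer ((centralizer ({x} : Set G) : Subgroup G) : Set G) :=
  le_trans (fun g hg => mem_centralizer_singleton_iff.2 (h g hg)) le_normalizer

theorem le_cent_comm {A B : Subgroup G} (h : A ≤ centralizer (B : Set G)) : B ≤ centralizer (A : Set G) :=
  fun b hb => mem_centralizer_iff.2 fun _ ha => (mem_centralizer_iff.1 (h ha) b hb).symm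

theorem pow_sub_pow {s i j : ℕ} (h : i ≤ j) : s ^ j - s ^ i = s ^ i * (s ^ (j - i) - 1) := by
  rw [Nat.mul_sub, ← pow_add, mul_one]
  congr 2
  omega

theorem lt_of_card_lt [Finite G] {s i j : ℕ} (hs : s.Prime) {A B : Subgroup G} (hAB : A ≤ B) (hne : ¬ B ≤ A)
    (hA : Nat.card A = s ^ i) (hB : Nat.card B = s ^ j) : i < j := by
  have h1 : Nat.card A < Nat.card B := by
    rcases Nat.lt_or_ge (Nat.card A) (Nat.card B) with h | h
    · exact h
    · exact absurd (eq_of_le_of_card_ge hAB h).ge hne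
  rw [hA, hB] at h1
  exact (Nat.pow_lt_pow_iff_right hs.one_lt).1 h1

theorem gl_aux [Finite G] {s t : ℕ} (hs : s.Prime) (ht : t.Prime) (hst : t ≠ s) {Q : Subgroup G} {j : ℕ}
    (hQ : Nat.card Q = s ^ j) : ∀ (n : ℕ) (T : Subgroup G) (i : ℕ), IsPGroup t T → T ≤ normalizer (Q : Set G) →
      Nat.card (Q ⊓ centralizer (T : Set G) : Subgroup G) = s ^ i → j ≤ i + n →
      (centralizer (Q : Set G)).relIndex T ∣ GLp s n := by
  have hfs : Fact s.Prime := ⟨hs⟩
  have hft : Fact t.Prime := ⟨ht⟩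
  unfold GLp
  intro n
  induction n with
  | zero =>
    intro T i hT hn hi hj
    have h1 : (Q ⊓ centralizer (T : Set G) : Subgroup G) = Q := by
      refine eq_of_le_of_card_ge inf_le_left ?_
      rw [hi, hQ]
      exact Nat.pow_le_pow_right hs.pos (by omega)
    have h2 : T ≤ centralizer (Q : Set G) := le_cent_comm (h1.ge.trans inf_le_right)
    rw [relIndex_eq_one.2 h2]
    exact one_dvd _
  | succ n ih =>
    intro T i hT hn hi hj
    rcases Nat.lt_or_ge (i + n) j with hlt | hge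
    swap
    · rw [Finset.prod_range_succ]
      exact (ih T i hT hn hi hge).mul_right _
    set R : Subgroup G := Q ⊓ centralizer (T : Set G) with hR
    have hTR : T ≤ normalizer (R : Set G) := norm_inf_cent hn le_normalizer
    have hne : s ^ (n + 1) - 1 ≠ 0 := by
      have := Nat.one_lt_pow (n := n + 1) (by omega) hs.one_lt
      omega
    obtain ⟨y, hy, hyR, hd⟩ : ∃ y ∈ Q, y ∉ R ∧ (centralizer ({y} : Set G)).relIndex T ∣ s ^ (n + 1) - 1 := by
      by_contra hcon
      push Not at hcon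
      have hv := Nat.ordProj_dvd (s ^ (n + 1) - 1) t
      have hv' := Nat.pow_succ_factorization_not_dvd hne ht
      set v := (s ^ (n + 1) - 1).factorization t
      have h1 : t ^ (v + 1) ∣ Nat.card Q - Nat.card R := by
        refine dvd_sub (P := T) hn hTR inf_le_left fun y hy hyR => ?_
        have h2 := hcon y hy hyR
        have h3 : (centralizer ({y} : Set G)).relIndex T ∣ Nat.card T := relIndex_dvd_card _ _
        obtain ⟨l, hl⟩ := hT.exists_card_eq
        rw [hl] at h3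
        obtain ⟨c, -, hc⟩ := (Nat.dvd_prime_pow ht).1 h3
        rw [hc] at h2 ⊢
        refine pow_dvd_pow t ?_
        by_contra hlt'
        exact h2 ((pow_dvd_pow t (by omega)).trans hv)
      rw [hQ, hi, pow_sub_pow (by omega), show j - i = n + 1 by omega] at h1
      exact hv' ((Nat.Coprime.pow _ _ ((Nat.coprime_primes ht hs).2 hst)).dvd_of_dvd_mul_left h1)
    set T1 : Subgroup G := centralizer ({y} : Set G) ⊓ T with hT1
    have hT1T : T1 ≤ T := inf_le_right
    have hRle : R ≤ Q ⊓ centralizer (T1 : Set G) :=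
      inf_le_inf_left Q (centralizer_le hT1T)
    have hy1 : y ∈ (Q ⊓ centralizer (T1 : Set G) : Subgroup G) := by
      refine ⟨hy, mem_centralizer_iff.2 ?_⟩
      intro x hx
      exact mem_centralizer_singleton_iff.1 hx.1
    have hp1 : IsPGroup s (Q ⊓ centralizer (T1 : Set G) : Subgroup G) :=
      (IsPGroup.of_card hQ).to_le inf_le_left
    obtain ⟨i1, hi1⟩ := hp1.exists_card_eq
    have hlt1 : i < i1 := lt_of_card_lt hs hRle (fun e => hyR (e hy1)) hi hi1
    have h1 := ih T1 i1 (hT.to_le hT1T) (hT1T.trans hn) hi1 (by omega)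
    have hCT : (centralizer (Q : Set G) ⊓ T : Subgroup G) ≤ T1 := by
      refine le_inf (fun x hx => ?_) inf_le_right
      rw [mem_centralizer_singleton_iff]
      exact (mem_centralizer_iff.1 hx.1 y hy).symm
    have h2 := relIndex_mul_relIndex (centralizer (Q : Set G) ⊓ T) T1 T hCT hT1T
    rw [inf_relIndex_right, hT1, inf_relIndex_right, ← hT1] at h2
    have h3 : (centralizer (Q : Set G) ⊓ T).relIndex T1 = (centralizer (Q : Set G)).relIndex T1 := by
      have h4 : (centralizer (Q : Set G) ⊓ T : Subgroup G) = centralizer (Q : Set G) ⊓ T1 :=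
        le_antisymm (le_inf inf_le_left hCT) (inf_le_inf_left _ hT1T)
      rw [h4, inf_relIndex_right]
    rw [h3] at h2
    rw [← h2, Finset.prod_range_succ]
    exact mul_dvd_mul h1 hd

/-- `|P : C_P(Q)|` divides `(r - 1) ... (r ^ m - 1)` -/
theorem gl_dvd [Finite G] {r t m : ℕ} (hr : r.Prime) (ht : t.Prime) (htr : t ≠ r) {P Q : Subgroup G}
    (hQ : IsPGroup r Q) (hm : ¬ r ^ (m + 1) ∣ Nat.card Q) (hP : IsPGroup t P) (hn : P ≤ normalizer (Q : Set G)) :
    (centralizer (Q : Set G)).relIndex P ∣ GLp r m := by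
  have hfs : Fact r.Prime := ⟨hr⟩
  obtain ⟨j, hj⟩ := hQ.exists_card_eq
  obtain ⟨i, hi⟩ := (hQ.to_le (inf_le_left : (Q ⊓ centralizer (P : Set G) : Subgroup G) ≤ Q)).exists_card_eq
  refine gl_aux hr ht htr hj m P i hP hn hi ?_
  by_contra hc
  exact hm (hj ▸ pow_dvd_pow r (by omega))

/-- the faithful case -/
theorem card_dvd_GLp [Finite G] {r t m : ℕ} (hr : r.Prime) (ht : t.Prime) (htr : t ≠ r) {P Q : Subgroup G}
    (hQ : IsPGroup r Q) (hm : ¬ r ^ (m + 1) ∣ Nat.card Q) (hP : IsPGroup t P) (hn : P ≤ normalizer (Q : Set G))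
    (hf : ∀ x ∈ P, x ∈ centralizer (Q : Set G) → x = 1) : Nat.card P ∣ GLp r m := by
  have h1 := gl_dvd hr ht htr hQ hm hP hn
  have h2 : centralizer (Q : Set G) ⊓ P = ⊥ := (eq_bot_iff_forall _).2 fun x hx => hf x hx.2 hx.1
  rwa [← inf_relIndex_right, h2, relIndex_bot_left] at h1

/-- the fixed points of a `t`-group on a `p`-group -/
theorem exists_mod' [Finite G] {p t : ℕ} (hp : p.Prime) (ht : t.Prime) (htp : t ≠ p) {S U : Subgroup G}
    (hS : IsPGroup p S) (hU : IsPGroup t U) (hn : U ≤ normalizer (S : Set G)) :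
    ∃ j, t ∣ p ^ j - 1 ∧ Nat.card S = p ^ j * Nat.card (S ⊓ centralizer (U : Set G) : Subgroup G) := by
  have hfs : Fact p.Prime := ⟨hp⟩
  obtain ⟨a, ha⟩ := hS.exists_card_eq
  obtain ⟨b, hb⟩ := (hS.to_le (inf_le_left : (S ⊓ centralizer (U : Set G) : Subgroup G) ≤ S)).exists_card_eq
  have hab : b ≤ a := by
    have := card_le_of_le (inf_le_left : (S ⊓ centralizer (U : Set G) : Subgroup G) ≤ S)
    rw [ha, hb] at this
    exact (Nat.pow_le_pow_iff_right hp.one_lt).1 this
  refine ⟨a - b, ?_, by rw [ha, hb, ← pow_add]; congr 1; omega⟩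
  have h1 : t ∣ Nat.card S - Nat.card (S ⊓ centralizer (U : Set G) : Subgroup G) := by
    refine dvd_sub hn (norm_inf_cent hn le_normalizer) inf_le_left fun y hy hyR => ?_
    refine dvd_relIndex_of_not_le ht hU fun e => hyR ⟨hy, mem_centralizer_iff.2 fun u hu => ?_⟩
    exact mem_centralizer_singleton_iff.1 (e hu)
  rw [ha, hb, pow_sub_pow hab] at h1
  exact (Nat.Coprime.pow_right _ ((Nat.coprime_primes ht hp).2 htp)).dvd_of_dvd_mul_left h1

/-- a non-trivial action -/
theorem exists_mod [Finite G] {p t : ℕ} (hp : p.Prime) (ht : t.Prime) (htp : t ≠ p) {S U : Subgroup G}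
    (hS : IsPGroup p S) (hU : IsPGroup t U) (hn : U ≤ normalizer (S : Set G)) (hc : ¬ U ≤ centralizer (S : Set G)) :
    ∃ j, 0 < j ∧ t ∣ p ^ j - 1 ∧ Nat.card S = p ^ j * Nat.card (S ⊓ centralizer (U : Set G) : Subgroup G) := by
  obtain ⟨j, h1, h2⟩ := exists_mod' hp ht htp hS hU hn
  refine ⟨j, Nat.pos_of_ne_zero ?_, h1, h2⟩
  rintro rfl
  rw [pow_zero, one_mul] at h2
  exact hc (le_cent_comm ((eq_of_le_of_card_ge inf_le_left h2.le).ge.trans inf_le_right))

/-- the action is trivial if the group is small -/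
theorem le_cent_of_small [Finite G] {p t k : ℕ} (hp : p.Prime) (ht : t.Prime) (htp : t ≠ p) {S U : Subgroup G}
    (hS : IsPGroup p S) (hU : IsPGroup t U) (hn : U ≤ normalizer (S : Set G)) (hk : ¬ p ^ (k + 1) ∣ Nat.card S)
    (hj : ∀ j, 0 < j → j ≤ k → ¬ t ∣ p ^ j - 1) : U ≤ centralizer (S : Set G) := by
  by_contra hc
  obtain ⟨j, h0, h1, h2⟩ := exists_mod hp ht htp hS hU hn hc
  refine hj j h0 ?_ h1
  by_contra hlt
  exact hk ((pow_dvd_pow p (by omega)).trans (h2 ▸ dvd_mul_right _ _))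

theorem coprime_of_pg [Finite G] {p t : ℕ} (hp : p.Prime) (ht : t.Prime) (htp : t ≠ p) {S U : Subgroup G}
    (hS : IsPGroup p S) (hU : IsPGroup t U) : (Nat.card U).Coprime (Nat.card S) := by
  have hfs : Fact p.Prime := ⟨hp⟩
  have hft : Fact t.Prime := ⟨ht⟩
  obtain ⟨a, ha⟩ := hS.exists_card_eq
  obtain ⟨b, hb⟩ := hU.exists_card_eq
  rw [ha, hb]
  exact Nat.Coprime.pow _ _ ((Nat.coprime_primes ht hp).2 htp)

/-- generation by the centralizers of the elements of a non-cyclic abelian group -/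
theorem le_cent_of_forall [Finite G] {A Q X : Subgroup G} (hc : ∀ a ∈ A, ∀ b ∈ A, a * b = b * a) (hnc : ¬ IsCyclic A)
    (hn : A ≤ normalizer (Q : Set G)) (hcop : (Nat.card A).Coprime (Nat.card Q))
    (h : ∀ a ∈ A, a ≠ 1 → X ≤ centralizer ((Q ⊓ centralizer ({a} : Set G) : Subgroup G) : Set G)) :
    X ≤ centralizer (Q : Set G) := by
  have : IsMulCommutative A := ⟨⟨fun a b => Subtype.ext (hc a a.2 b b.2)⟩⟩
  apply le_cent_comm
  rw [← Cfsg.Agent.S0058.result A Q hnc hn hcop]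
  exact iSup₂_le fun a ha => le_cent_comm (h a ha.1 ha.2)

theorem not_cyclic_of_exp [Finite G] {t : ℕ} (ht : t.Prime) {A : Subgroup G} (he : ∀ a ∈ A, a ^ t = 1)
    (hc : t ^ 2 ∣ Nat.card A) : ¬ IsCyclic A := by
  intro h
  obtain ⟨g, hg⟩ := IsCyclic.exists_ofOrder_eq_natCard (α := A)
  have h1 : orderOf g ∣ t := orderOf_dvd_of_pow_eq_one (Subtype.ext (he g g.2))
  rw [hg] at h1
  have h2 := Nat.le_of_dvd ht.pos (hc.trans h1)
  have h3 := ht.one_lt
  nlinarith

/-- a normal elementary abelian subgroup of order `t ^ 2` -/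
theorem exists_E [Finite G] {t : ℕ} (ht : t.Prime) (ht2 : t ≠ 2) {P : Subgroup G} (hP : IsPGroup t P)
    (hnc : ¬ IsCyclic P) : ∃ E ≤ P, P ≤ normalizer (E : Set G) ∧ Nat.card E = t ^ 2 ∧
      (∀ a ∈ E, ∀ b ∈ E, a * b = b * a) ∧ ∀ a ∈ E, a ^ t = 1 := by
  have : Fact t.Prime := ⟨ht⟩
  obtain ⟨A, h1, h2, h3⟩ := Cfsg.Agent.S0126.result ht2 hP hnc
  refine ⟨A.map P.subtype, map_subtype_le _, norm_of_conj ?_, ?_, ?_, ?_⟩
  · rintro g hg _ ⟨a, ha, rfl⟩
    exact ⟨_, h1.conj_mem a ha ⟨g, hg⟩, rfl⟩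
  · rw [card_map_of_injective P.subtype_injective, h3]
  · rintro _ ⟨a, ha, rfl⟩ _ ⟨b, hb, rfl⟩
    exact congrArg (fun x : A => ((x : P) : G)) (h2.1.is_comm.comm ⟨a, ha⟩ ⟨b, hb⟩)
  · rintro _ ⟨a, ha, rfl⟩
    exact congrArg Subtype.val (h2.2 a ha)

theorem orderOf_eq_of_pow {t : ℕ} (ht : t.Prime) {a : G} (h : a ^ t = 1) (h1 : a ≠ 1) : orderOf a = t :=
  have : Fact t.Prime := ⟨ht⟩
  orderOf_eq_prime h h1

/-- **a non-cyclic `t`-group acting faithfully** -/
theorem exists_pair [Finite G] {r t : ℕ} (hr : r.Prime) (ht : t.Prime) (htr : t ≠ r) (ht2 : t ≠ 2) {P Q : Subgroup G}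
    (hQ : IsPGroup r Q) (hP : IsPGroup t P) (hnc : ¬ IsCyclic P) (hn : P ≤ normalizer (Q : Set G))
    (hf : ∀ x ∈ P, x ∈ centralizer (Q : Set G) → x = 1) :
    ∃ x ∈ P, ∃ w ∈ P, orderOf x = t ∧ w ^ t = 1 ∧ w * x = x * w ∧
      w ∉ centralizer ((Q ⊓ centralizer ({x} : Set G) : Subgroup G) : Set G) := by
  obtain ⟨E, hE, -, h2, h3, h4⟩ := exists_E ht ht2 hP hnc
  by_contra hc
  push Not at hc
  have h5 : E ≤ centralizer (Q : Set G) :=
    le_cent_of_forall h3 (not_cyclic_of_exp ht h4 h2.symm.dvd) (hE.trans hn) (coprime_of_pg hr ht htr hQ (hP.to_le hE))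
      fun a ha ha1 w hw => hc a (hE ha) w (hE hw) (orderOf_eq_of_pow ht (h4 a ha) ha1) (h4 w hw) (h3 w hw a ha)
  have h6 : E = ⊥ := (eq_bot_iff_forall _).2 fun x hx => hf x (hE hx) (h5 hx)
  rw [h6, card_bot] at h2
  exact (Nat.one_lt_pow (by norm_num) ht.one_lt).ne h2

/-- no element of order `t ^ 2` -/
theorem pow_eq_one_of_small [Finite G] {r t m : ℕ} (hr : r.Prime) (ht : t.Prime) (htr : t ≠ r) {P Q : Subgroup G}
    (hQ : IsPGroup r Q) (hm : ¬ r ^ (m + 1) ∣ Nat.card Q) (hP : IsPGroup t P) (hn : P ≤ normalizer (Q : Set G))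
    (hf : ∀ x ∈ P, x ∈ centralizer (Q : Set G) → x = 1) (hb : ∀ i, 0 < i → i ≤ m → ¬ t ^ 2 ∣ r ^ i - 1) {g : G}
    (hg : g ∈ P) : g ^ t = 1 := by
  have hfs : Fact r.Prime := ⟨hr⟩
  have hft : Fact t.Prime := ⟨ht⟩
  by_contra h1
  have hU : zpowers g ≤ P := zpowers_le.2 hg
  have hcm : ∀ k ∈ zpowers g, k * g ^ t = g ^ t * k := by
    rintro _ ⟨i, rfl⟩
    exact (((Commute.refl g).zpow_left i).pow_right t).eq
  obtain ⟨a, ha⟩ := hQ.exists_card_eq
  obtain ⟨b, hb'⟩ := (hQ.to_le (inf_le_left : (Q ⊓ centralizer ({g ^ t} : Set G) : Subgroup G) ≤ Q)).exists_card_eq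
  have hlt : b < a := lt_of_card_lt hr inf_le_left (fun e => h1 (hf _ (P.pow_mem hg t)
    (mem_centralizer_iff.2 fun q hq => mem_centralizer_singleton_iff.1 (e hq).2))) hb' ha
  have h2 : t ^ 2 ∣ Nat.card Q - Nat.card (Q ⊓ centralizer ({g ^ t} : Set G) : Subgroup G) := by
    refine dvd_sub (P := zpowers g) (hU.trans hn) (norm_inf (hU.trans hn) (norm_cent_single hcm)) inf_le_left
      fun y hy hyR => ?_
    obtain ⟨c, hc⟩ := (hP.to_le hU).index ((centralizer ({y} : Set G)).subgroupOf (zpowers g))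
    change t ^ 2 ∣ ((centralizer ({y} : Set G)).subgroupOf (zpowers g)).index
    rw [hc]
    refine pow_dvd_pow t ?_
    by_contra hlt'
    apply hyR
    refine ⟨hy, mem_centralizer_singleton_iff.2 ?_⟩
    have hnm : ((centralizer ({y} : Set G)).subgroupOf (zpowers g)).Normal := by
      refine ⟨fun n hn' k => ?_⟩
      have e : k * n * k⁻¹ = n := by rw [mul_comm' k n, mul_inv_cancel_right]
      rwa [e]
    have h3 := pow_index_mem (H := (centralizer ({y} : Set G)).subgroupOf (zpowers g)) ⟨g, mem_zpowers g⟩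
    rw [hc, mem_subgroupOf] at h3
    have h4 : g ^ t ∈ centralizer ({y} : Set G) := by
      have h5 : t = t ^ c * t ^ (1 - c) := by rw [← pow_add, show c + (1 - c) = 1 by omega, pow_one]
      rw [h5, pow_mul]
      exact pow_mem h3 _
    exact (mem_centralizer_singleton_iff.1 h4).symm
  rw [ha, hb', pow_sub_pow hlt.le] at h2
  refine hb (a - b) (by omega) ?_
    ((Nat.Coprime.pow _ _ ((Nat.coprime_primes ht hr).2 htr)).dvd_of_dvd_mul_left h2)
  by_contra hc
  exact hm (ha ▸ pow_dvd_pow r (by omega))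

/-- an elementary abelian group of order `t ^ 3` -/
theorem false_of_cube_ab [Finite G] {r t k : ℕ} (hr : r.Prime) (ht : t.Prime) (htr : t ≠ r) {P Q : Subgroup G}
    (hQ : IsPGroup r Q) (hP : Nat.card P = t ^ 3) (hc : ∀ a ∈ P, ∀ b ∈ P, a * b = b * a) (he : ∀ a ∈ P, a ^ t = 1)
    (hn : P ≤ normalizer (Q : Set G)) (hf : ∀ x ∈ P, x ∈ centralizer (Q : Set G) → x = 1)
    (ha : ∀ x ∈ P, orderOf x = t → ¬ r ^ (k + 1) ∣ Nat.card (Q ⊓ centralizer ({x} : Set G) : Subgroup G))
    (ha' : ¬ t ^ 2 ∣ GLp r k) : False := by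
  have hft : Fact t.Prime := ⟨ht⟩
  have hPp : IsPGroup t P := IsPGroup.of_card hP
  have hnc : ¬ IsCyclic P := not_cyclic_of_exp ht he (hP ▸ pow_dvd_pow t (by norm_num))
  have hcop := coprime_of_pg hr ht htr hQ hPp
  set W : G → Subgroup G := fun x => Q ⊓ centralizer ({x} : Set G) with hW
  set K : G → Subgroup G := fun x => centralizer (W x : Set G) ⊓ P with hK
  have hidx : ∀ x ∈ P, x ≠ 1 → (centralizer (W x : Set G)).relIndex P ∣ t := by
    intro x hx hx1
    have h1 := gl_dvd hr ht htr (hQ.to_le inf_le_left) (ha x hx (orderOf_eq_of_pow ht (he x hx) hx1)) hPp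
      (norm_inf hn (norm_cent_single fun g hg => hc g hg x hx))
    obtain ⟨c, hc'⟩ := hPp.index ((centralizer (W x : Set G)).subgroupOf P)
    change ((centralizer (W x : Set G)).subgroupOf P).index ∣ _ at h1 ⊢
    rw [hc'] at h1 ⊢
    rcases Nat.lt_or_ge c 2 with h2 | h2
    · simpa using pow_dvd_pow t (show c ≤ 1 by omega)
    · exact absurd ((pow_dvd_pow t h2).trans h1) ha'
  have hge : ∀ x ∈ P, x ≠ 1 → t ^ 2 ≤ Nat.card (K x) := by
    intro x hx hx1
    have h1 := card_inf_mul (centralizer (W x : Set G)) P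
    have h2 := Nat.le_of_dvd ht.pos (hidx x hx hx1)
    have h3 : t ^ 2 * t ≤ Nat.card (K x) * t := by
      rw [← pow_succ, ← hP, ← h1]
      exact Nat.mul_le_mul_left _ h2
    exact Nat.le_of_mul_le_mul_right h3 ht.pos
  have hle : ∀ x ∈ P, ¬ P ≤ centralizer (W x : Set G) → Nat.card (K x) ≤ t ^ 2 := by
    intro x hx hx1
    have h1 := card_inf_mul (centralizer (W x : Set G)) P
    have h2 := Nat.le_of_dvd (Nat.pos_of_ne_zero (relIndex_ne_zero' _ _)) (dvd_relIndex_of_not_le ht hPp hx1)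
    have h3 : Nat.card (K x) * t ≤ t ^ 2 * t := by
      rw [← pow_succ, ← hP, ← h1]
      exact Nat.mul_le_mul_left _ h2
    exact Nat.le_of_mul_le_mul_right h3 ht.pos
  have hbot : ∀ X : Subgroup G, X ≤ P → X ≤ centralizer (Q : Set G) → Nat.card X = 1 := fun X h1 h2 => by
    rw [(eq_bot_iff_forall _).2 fun x hx => hf x (h1 hx) (h2 hx), card_bot]
  have ht1 := ht.one_lt
  obtain ⟨x1, hx1, hx11, hx12⟩ : ∃ x ∈ P, x ≠ 1 ∧ ¬ P ≤ centralizer (W x : Set G) := by
    by_contra hcon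
    push Not at hcon
    have h1 := hbot P le_rfl (le_cent_of_forall hc hnc hn hcop hcon)
    rw [hP] at h1
    exact (Nat.one_lt_pow (by norm_num) ht1).ne' h1
  have h1 : K x1 ≤ centralizer (Q : Set G) := by
    refine le_cent_of_forall hc hnc hn hcop fun x hx hx' => ?_
    by_cases e : P ≤ centralizer (W x : Set G)
    · exact inf_le_right.trans e
    have h2 : (K x1 ⊓ K x : Subgroup G) ≠ ⊥ := by
      intro e2
      have h3 := card_inf_mul (K x1) (K x)
      rw [e2, card_bot, one_mul] at h3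
      have h4 : (K x1).relIndex (K x) ≤ (K x1).relIndex P :=
        relIndex_le_of_le_right inf_le_right (relIndex_ne_zero' _ _)
      have h5 : (K x1).relIndex P ≤ t := by
        rw [hK, inf_relIndex_right]
        exact Nat.le_of_dvd ht.pos (hidx x1 hx1 hx11)
      have h6 := hge x hx hx'
      nlinarith
    obtain ⟨⟨v, hv⟩, hv1⟩ := ne_bot_iff_exists_ne_one.1 h2
    have hv2 : v ≠ 1 := fun e => hv1 (Subtype.ext e)
    have hvP : v ∈ P := hv.1.2
    have key : ∀ y : G, v ∈ K y → K v ≤ K y := by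
      intro y hy
      refine inf_le_inf_right P (centralizer_le fun q hq => ⟨hq.1, mem_centralizer_singleton_iff.2 ?_⟩)
      exact mem_centralizer_iff.1 hy.1 q hq
    have h3 : K v = K x1 := eq_of_le_of_card_ge (key x1 hv.1) ((hle x1 hx1 hx12).trans (hge v hvP hv2))
    rw [← h3]
    exact (key x hv.2).trans inf_le_left
  have h2 := hbot _ inf_le_right h1
  have h3 := hge x1 hx1 hx11
  change t ^ 2 ≤ Nat.card (centralizer (W x1 : Set G) ⊓ P : Subgroup G) at h3
  rw [h2] at h3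
  nlinarith

theorem cent_pow {t : ℕ} (ht : t.Prime) {f : G} (hf : f ^ t = 1) {a : ℕ} (ha : ¬ t ∣ a) :
    centralizer ({f ^ a} : Set G) = centralizer ({f} : Set G) := by
  ext x
  rw [mem_centralizer_singleton_iff, mem_centralizer_singleton_iff]
  refine ⟨fun h => ?_, fun h => ((show Commute x f from h).pow_right a).eq⟩
  have h1 : (orderOf f).Coprime a :=
    Nat.Coprime.coprime_dvd_left (orderOf_dvd_of_pow_eq_one hf) ((Nat.Prime.coprime_iff_not_dvd ht).2 ha)
  obtain ⟨b, hb⟩ := exists_pow_eq_self_of_coprime h1.symm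
  rw [← hb]
  exact ((show Commute x (f ^ a) from h).pow_right b).eq

theorem card_inf_cent_conj {Q : Subgroup G} {w : G} (hw : w ∈ normalizer (Q : Set G)) (f : G) :
    Nat.card (Q ⊓ centralizer ({w * f * w⁻¹} : Set G) : Subgroup G) =
      Nat.card (Q ⊓ centralizer ({f} : Set G) : Subgroup G) := by
  rw [← card_cj w (Q ⊓ centralizer ({f} : Set G))]
  congr 2
  ext x
  rw [cj_inf, cj_eq_iff.2 hw, mem_inf, mem_inf, mem_cj, mem_centralizer_singleton_iff, mem_centralizer_singleton_iff]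
  refine and_congr_right fun _ => ⟨fun h => ?_, fun h => ?_⟩
  · calc w⁻¹ * x * w * f = w⁻¹ * (x * (w * f * w⁻¹)) * w := by group
      _ = f * (w⁻¹ * x * w) := by rw [h]; group
  · calc x * (w * f * w⁻¹) = w * (w⁻¹ * x * w * f) * w⁻¹ := by group
      _ = w * f * w⁻¹ * x := by rw [h]; group

/-- the Heisenberg relation -/
theorem false_of_heis [Finite G] {r t m : ℕ} (hr : r.Prime) (ht : t.Prime) (htr : t ≠ r) {E Q : Subgroup G}
    (hQ : IsPGroup r Q) (hm : ¬ r ^ (m + 1) ∣ Nat.card Q) (hE : Nat.card E = t ^ 2)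
    (hc : ∀ a ∈ E, ∀ b ∈ E, a * b = b * a) (he : ∀ a ∈ E, a ^ t = 1) (hn : E ≤ normalizer (Q : Set G))
    {w f c : G} (hw : w ∈ normalizer (Q : Set G)) (hfE : f ∈ E) (hcE : c ∈ E) (hc1 : c ∉ centralizer (Q : Set G))
    (hwf : w * f * w⁻¹ = f * c) (hwc : w * c * w⁻¹ = c)
    (hj : ∀ i, 0 < i → i * t ≤ m → ¬ t ∣ r ^ i - 1) : False := by
  classical
  have hfs : Fact r.Prime := ⟨hr⟩
  have hft : Fact t.Prime := ⟨ht⟩
  have hEp : IsPGroup t E := IsPGroup.of_card hE
  have hc0 : c ≠ 1 := fun e => hc1 (e ▸ one_mem _)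
  have hco : orderOf c = t := orderOf_eq_of_pow ht (he c hcE) hc0
  have hfc : f ∉ zpowers c := by
    rintro ⟨i, rfl⟩
    apply hc0
    have h1 : w * c ^ i * w⁻¹ = c ^ i := by rw [← conj_zpow, hwc]
    change w * c ^ i * w⁻¹ = c ^ i * c at hwf
    rw [h1] at hwf
    exact left_eq_mul.1 hwf
  have hcf : Commute f c := hc f hfE c hcE
  have hwi : ∀ i : ℕ, w ^ i * f * (w ^ i)⁻¹ = f * c ^ i := by
    intro i
    induction i with
    | zero => simp
    | succ i ih =>
      have h1 : w * c ^ i * w⁻¹ = c ^ i := by rw [← conj_pow, hwc]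
      calc w ^ (i + 1) * f * (w ^ (i + 1))⁻¹ = w * (w ^ i * f * (w ^ i)⁻¹) * w⁻¹ := by rw [pow_succ']; group
        _ = (w * f * w⁻¹) * (w * c ^ i * w⁻¹) := by rw [ih]; group
        _ = f * c ^ (i + 1) := by rw [hwf, h1, pow_succ', mul_assoc]
  -- every element of `E` is `f ^ a * c ^ b`
  have hZ : zpowers c ≤ E := zpowers_le.2 hcE
  have hrel : (zpowers c).relIndex E = t := by
    have h1 := card_mul_relIndex hZ
    rw [Nat.card_zpowers, hco, hE, pow_two] at h1
    exact Nat.eq_of_mul_eq_mul_left ht.pos h1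
  have hsup : zpowers f ⊔ zpowers c = E := by
    have hle : zpowers f ⊔ zpowers c ≤ E := sup_le (zpowers_le.2 hfE) hZ
    have h1 := relIndex_mul_relIndex (zpowers c) _ E le_sup_right hle
    rw [hrel] at h1
    rcases (Nat.dvd_prime ht).1 (Dvd.intro _ h1) with h2 | h2
    · exact absurd (relIndex_eq_one.1 h2 (mem_sup_left (mem_zpowers f))) hfc
    · rw [h2] at h1
      exact le_antisymm hle (relIndex_eq_one.1 (Nat.eq_of_mul_eq_mul_left ht.pos (h1.trans (mul_one t).symm)))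
  have hform : ∀ g ∈ E, ∃ a b : ℕ, g = f ^ a * c ^ b := by
    intro g hg
    rw [← hsup, zpowers_eq_closure, zpowers_eq_closure, ← Subgroup.closure_union] at hg
    induction hg using closure_induction with
    | mem x hx =>
      rcases hx with rfl | rfl
      · exact ⟨1, 0, by simp⟩
      · exact ⟨0, 1, by simp⟩
    | one => exact ⟨0, 0, by simp⟩
    | mul x y _ _ hx hy =>
      obtain ⟨a, b, rfl⟩ := hx
      obtain ⟨a', b', rfl⟩ := hy
      refine ⟨a + a', b + b', ?_⟩
      rw [pow_add, pow_add, mul_assoc, mul_assoc, ← mul_assoc (c ^ b), ← (hcf.pow_pow a' b).eq, mul_assoc]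
    | inv x _ hx =>
      obtain ⟨a, b, rfl⟩ := hx
      refine ⟨a * (t - 1), b * (t - 1), ?_⟩
      rw [pow_mul, pow_mul, ← (hcf.pow_pow a b).mul_pow, inv_eq_iff_mul_eq_one, ← pow_succ',
        Nat.sub_add_cancel ht.one_le]
      exact he _ (E.mul_mem (E.pow_mem hfE a) (E.pow_mem hcE b))
  set C : G → ℕ := fun g => Nat.card (Q ⊓ centralizer ({g} : Set G) : Subgroup G) with hC
  have hout : ∀ g ∈ E, g ∉ zpowers c → C g = C f := by
    intro g hg hgc
    obtain ⟨a, b, rfl⟩ := hform g hg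
    have ha : ¬ t ∣ a := by
      rintro ⟨a', rfl⟩
      apply hgc
      rw [pow_mul, he f hfE, one_pow, one_mul]
      exact pow_mem (mem_zpowers c) b
    have h1 : (orderOf c).Coprime a := by rw [hco]; exact (Nat.Prime.coprime_iff_not_dvd ht).2 ha
    obtain ⟨n, hn'⟩ := exists_pow_eq_self_of_coprime h1.symm
    have h2 : f ^ a * c ^ b = (f * c ^ (n * b)) ^ a := by
      rw [(hcf.pow_right _).mul_pow, ← pow_mul, mul_comm (n * b) a, ← mul_assoc, pow_mul c (a * n) b, pow_mul c a n, hn']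
    have h3 : (f * c ^ (n * b)) ^ t = 1 := he _ (E.mul_mem hfE (E.pow_mem hcE _))
    simp only [hC]
    rw [h2, cent_pow ht h3 ha, ← hwi, card_inf_cent_conj (pow_mem hw _)]
  have hin : ∀ g ∈ zpowers c, g ≠ 1 → C g = C c := by
    intro g hg hg1
    obtain ⟨a, rfl⟩ := (mem_powers_iff_mem_zpowers.2 hg : g ∈ Submonoid.powers c)
    have ha : ¬ t ∣ a := by
      rintro ⟨a', rfl⟩
      apply hg1
      change c ^ (t * a') = 1
      rw [pow_mul, he c hcE, one_pow]
    simp only [hC]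
    rw [cent_pow ht (he c hcE) ha]
  have := Fintype.ofFinite {g : G // g ∈ E ∧ g ≠ 1}
  have hBW := H565.RankTwo.brauer_wielandt ht E Q hn hE hc he (not_dvd_card_of_pg hr ht htr hQ)
  have hsplit := Finset.prod_filter_mul_prod_filter_not (Finset.univ : Finset {g : G // g ∈ E ∧ g ≠ 1})
    (fun g => g.1 ∈ zpowers c) (fun g => C g.1 ^ t)
  have hc1' : (Finset.univ.filter fun g : {g : G // g ∈ E ∧ g ≠ 1} => g.1 ∈ zpowers c).card = t - 1 := by
    have h1 : Nat.card {g : G // g ∈ zpowers c ∧ g ≠ 1} = t - 1 := by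
      have h2 := Set.ncard_sdiff_singleton_of_mem (s := (zpowers c : Set G)) (a := 1) (one_mem _)
      have h3 : (zpowers c : Set G).ncard = t := by
        rw [← hco, ← Nat.card_zpowers]; rfl
      rw [h3] at h2
      exact h2
    rw [← h1, ← Fintype.card_subtype, ← Nat.card_eq_fintype_card]
    exact Nat.card_congr
      { toFun := fun g => ⟨g.1.1, g.2, g.1.2.2⟩
        invFun := fun g => ⟨⟨g.1, hZ g.2.1, g.2.2⟩, g.2.1⟩
        left_inv := fun _ => rfl
        right_inv := fun _ => rfl }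
  have hall : (Finset.univ : Finset {g : G // g ∈ E ∧ g ≠ 1}).card = t ^ 2 - 1 := by
    have h2 := Set.ncard_sdiff_singleton_of_mem (s := (E : Set G)) (a := 1) (one_mem _)
    have h3 : (E : Set G).ncard = t ^ 2 := hE
    rw [h3] at h2
    rw [Finset.card_univ, ← Nat.card_eq_fintype_card]
    exact h2
  have ht1 := ht.one_lt
  have hc2' : (Finset.univ.filter fun g : {g : G // g ∈ E ∧ g ≠ 1} => ¬ g.1 ∈ zpowers c).card = t * (t - 1) := by
    have h1 := Finset.card_filter_add_card_filter_not (s := (Finset.univ : Finset {g : G // g ∈ E ∧ g ≠ 1}))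
      (fun g => g.1 ∈ zpowers c)
    rw [hc1', hall] at h1
    obtain ⟨s, rfl⟩ : ∃ s, t = s + 1 := ⟨t - 1, by omega⟩
    simp only [Nat.add_sub_cancel] at h1 ⊢
    have h2 : (s + 1) ^ 2 - 1 = s + (s + 1) * s := by
      rw [Nat.sub_eq_iff_eq_add (Nat.one_le_pow _ _ (by omega))]; ring
    omega
  rw [Finset.prod_congr rfl (g := fun _ => C c ^ t) (fun g hg => by
      rw [hin g.1 (Finset.mem_filter.1 hg).2 g.2.2]),
    Finset.prod_congr rfl (s₁ := Finset.univ.filter fun g : {g : G // g ∈ E ∧ g ≠ 1} => ¬ g.1 ∈ zpowers c)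
      (g := fun _ => C f ^ t) (fun g hg => by rw [hout g.1 g.2.1 (Finset.mem_filter.1 hg).2]),
    Finset.prod_const, Finset.prod_const, hc1', hc2'] at hsplit
  rw [← hsplit] at hBW
  -- the exponents
  obtain ⟨a, ha⟩ := hQ.exists_card_eq
  obtain ⟨b, hb⟩ := (hQ.to_le (inf_le_left : (Q ⊓ centralizer ({c} : Set G) : Subgroup G) ≤ Q)).exists_card_eq
  obtain ⟨e, he'⟩ := (hQ.to_le (inf_le_left : (Q ⊓ centralizer (E : Set G) : Subgroup G) ≤ Q)).exists_card_eq
  obtain ⟨j, hj1, hj2⟩ := exists_mod' hr ht htr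
    (hQ.to_le (inf_le_left : (Q ⊓ centralizer ({f} : Set G) : Subgroup G) ≤ Q)) hEp
    (norm_inf hn (norm_cent_single fun g hg => hc g hg f hfE))
  have e1 : (Q ⊓ centralizer ({f} : Set G) ⊓ centralizer (E : Set G) : Subgroup G) = Q ⊓ centralizer (E : Set G) := by
    refine le_antisymm (inf_le_inf_right _ inf_le_left) (le_inf (inf_le_inf_left _ ?_) inf_le_right)
    exact centralizer_le (Set.singleton_subset_iff.2 hfE)
  rw [e1, he'] at hj2
  have hba : b < a := lt_of_card_lt hr inf_le_left (fun e => hc1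
    (mem_centralizer_iff.2 fun q hq => mem_centralizer_singleton_iff.1 (e hq).2)) hb ha
  simp only [hC] at hBW
  rw [ha, hb, he', hj2] at hBW
  simp only [← pow_add, ← pow_mul] at hBW
  have h1 := Nat.pow_right_injective hr.two_le hBW
  obtain ⟨s, rfl⟩ : ∃ s, t = s + 1 := ⟨t - 1, by omega⟩
  have h2 : (s + 1) ^ 2 - (s + 1) = (s + 1) * s := by
    rw [Nat.sub_eq_iff_eq_add (by nlinarith)]; ring
  simp only [Nat.add_sub_cancel] at h1
  rw [h2] at h1
  have h3 : b + j * (s + 1) = a := by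
    have h4 : (b + j * (s + 1)) * ((s + 1) * s) = a * ((s + 1) * s) := by nlinarith
    exact Nat.eq_of_mul_eq_mul_right (Nat.mul_pos (by omega) (by omega)) h4
  have h5 : a ≤ m := by
    by_contra hc'
    exact hm (ha ▸ pow_dvd_pow r (by omega))
  refine hj j (Nat.pos_of_ne_zero ?_) (by omega) hj1
  rintro rfl
  omega

/-- **a group of order `t ^ 3` acting faithfully on a small `r`-group** -/
theorem false_of_cube [Finite G] {r t m k : ℕ} (hr : r.Prime) (ht : t.Prime) (htr : t ≠ r) (ht2 : t ≠ 2)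
    {P Q : Subgroup G} (hQ : IsPGroup r Q) (hm : ¬ r ^ (m + 1) ∣ Nat.card Q) (hP : IsPGroup t P)
    (h3 : t ^ 3 ∣ Nat.card P) (hn : P ≤ normalizer (Q : Set G)) (hf : ∀ x ∈ P, x ∈ centralizer (Q : Set G) → x = 1)
    (ha : ∀ x ∈ P, orderOf x = t → ¬ r ^ (k + 1) ∣ Nat.card (Q ⊓ centralizer ({x} : Set G) : Subgroup G))
    (ha' : ¬ t ^ 2 ∣ GLp r k) (hb : ∀ i, 0 < i → i ≤ m → ¬ t ^ 2 ∣ r ^ i - 1)
    (hj : ∀ i, 0 < i → i * t ≤ m → ¬ t ∣ r ^ i - 1) : False := by
  have hft : Fact t.Prime := ⟨ht⟩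
  obtain ⟨K, hK⟩ := Sylow.exists_subgroup_card_pow_prime t h3
  set P1 : Subgroup G := K.map P.subtype with hP1
  have hle : P1 ≤ P := map_subtype_le _
  have hc1 : Nat.card P1 = t ^ 3 := by rw [hP1, card_map_of_injective P.subtype_injective, hK]
  have he : ∀ a ∈ P1, a ^ t = 1 := fun a ha => pow_eq_one_of_small hr ht htr hQ hm hP hn hf hb (hle ha)
  have hP1p : IsPGroup t P1 := hP.to_le hle
  by_cases hc : ∀ a ∈ P1, ∀ b ∈ P1, a * b = b * a
  · exact false_of_cube_ab hr ht htr hQ hc1 hc he (hle.trans hn) (fun x hx => hf x (hle hx))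
      (fun x hx => ha x (hle hx)) ha'
  obtain ⟨E, hE, hEn, h2, h3', h4⟩ := exists_E ht ht2 hP1p
    (not_cyclic_of_exp ht he (hc1 ▸ pow_dvd_pow t (by norm_num)))
  have hrel : E.relIndex P1 = t := by
    have h1 := card_mul_relIndex hE
    rw [h2, hc1, pow_succ] at h1
    exact Nat.eq_of_mul_eq_mul_left (pow_pos ht.pos 2) h1
  have hEN : (E.subgroupOf P1).Normal := (normal_subgroupOf_iff_le_normalizer hE).2 hEn
  -- `E` is not central
  obtain ⟨w, hw, f, hfE, hwf⟩ : ∃ w ∈ P1, ∃ f ∈ E, w * f ≠ f * w := by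
    by_contra hcon
    push Not at hcon
    apply hc
    have hcy : IsCyclic (P1 ⧸ E.subgroupOf P1) := isCyclic_of_prime_card (p := t) hrel
    have h5 := MonoidHom.isMulCommutative_of_isCyclic_of_ker_le_center (QuotientGroup.mk' (E.subgroupOf P1)) (by
      rw [QuotientGroup.ker_mk']
      intro x hx
      rw [mem_center_iff]
      intro g
      exact Subtype.ext (hcon g g.2 x hx))
    intro a ha b hb
    exact congrArg Subtype.val (h5.is_comm.comm ⟨a, ha⟩ ⟨b, hb⟩)
  have hEb : E ≠ ⊥ := by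
    rintro rfl
    rw [mem_bot.1 hfE] at hwf
    simp at hwf
  obtain ⟨z, hzE, hzo, hzc⟩ := exists_central ht hP1p hE hEb hEn
  -- the commutator is central
  have hZ : zpowers z ≤ E := zpowers_le.2 hzE
  have hZc : ∀ g ∈ P1, ∀ x ∈ zpowers z, g * x = x * g := by
    rintro g hg _ ⟨i, rfl⟩
    exact ((show Commute g z from hzc g hg).zpow_right i).eq
  have hZN : ((zpowers z).subgroupOf P1).Normal := by
    refine ⟨fun n hn' g => ?_⟩
    rw [mem_subgroupOf] at hn' ⊢
    have e : ((g * n * g⁻¹ : P1) : G) = n := by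
      rw [coe_mul, coe_mul, coe_inv, hZc g g.2 n hn', mul_inv_cancel_right]
    rwa [e]
  have hq : Nat.card (P1 ⧸ (zpowers z).subgroupOf P1) = t ^ 2 := by
    have h1 := card_mul_relIndex (hZ.trans hE)
    rw [Nat.card_zpowers, hzo, hc1, pow_succ'] at h1
    exact Nat.eq_of_mul_eq_mul_left ht.pos h1
  have h5 := (IsPGroup.isMulCommutative_of_card_eq_prime_sq hq).is_comm.comm
    (QuotientGroup.mk' _ (⟨f, hE hfE⟩ : P1)) (QuotientGroup.mk' _ (⟨w, hw⟩ : P1))
  rw [← map_mul, ← map_mul, QuotientGroup.mk'_apply, QuotientGroup.mk'_apply, QuotientGroup.eq, mem_subgroupOf] at h5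
  have h6 : (f * w)⁻¹ * (w * f) ∈ zpowers z := h5
  set c := (f * w)⁻¹ * (w * f) with hcdef
  have h7 : w * c = c * w := hZc w hw c h6
  have hc0 : c ≠ 1 := by
    intro e
    apply hwf
    rw [hcdef, inv_mul_eq_one] at e
    exact e.symm
  refine false_of_heis hr ht htr hQ hm h2 h3' h4 ((hE.trans hle).trans hn) (hn (hle hw)) hfE (hZ h6)
    (fun e => hc0 (hf c (hle (hE (hZ h6))) e)) ?_ ?_ hj
  · calc w * f * w⁻¹ = f * (w * c) * w⁻¹ := by rw [hcdef]; group
      _ = f * c := by rw [h7]; group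
  · rw [h7, mul_inv_cancel_right]

end Cfsg.Agent.T44.Spor
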