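import Cfsg.Agent.T44.Spor.Loc

/-!
# S3544, sporadic rows: the decidable test (helper35)

`cb` is a list of bounds `(t, p, k)` : `p ^ (k + 1)` does not divide the order of the centralizer of an element of
order `t`; `nt` is a list of pairs `(t, p)` with `NT T t p`.
-/

set_option autoImplicit false

namespace Cfsg.Agent.T44.Spor

open Subgroup Cfsg

/-- the primes whose square divides the order of a sporadic group -/
def L6 : List ℕ := [2, 3, 5, 7, 11, 13]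

/-- a common multiple of the orders of the sporadic groups -/
def U0 : ℕ := 2 ^ 46 * 3 ^ 20 * 5 ^ 9 * 7 ^ 6 * 11 ^ 3 * 13 ^ 3 * 17 * 19 * 23 * 29 * 31 * 37 * 41 * 43 * 47 * 59 *
  67 * 71

theorem mem_L6 {p : ℕ} (hp : p.Prime) (h : p ^ 2 ∣ U0) : p ∈ L6 := by
  have h1 : p ∣ U0 := (dvd_pow_self p (by norm_num)).trans h
  have key : ∀ q : ℕ, q.Prime → p ∣ q → p = q := fun q hq e => (Nat.prime_dvd_prime_iff_eq hp hq).1 e
  have key' : ∀ q k : ℕ, q.Prime → p ∣ q ^ k → p = q := fun q k hq e => key q hq (hp.dvd_of_dvd_pow e)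
  unfold U0 at h1
  simp only [hp.dvd_mul] at h1
  rcases h1 with ((((((((((((((((e | e) | e) | e) | e) | e) | e) | e) | e) | e) | e) | e) | e) | e) | e) | e) | e) | e
  all_goals first
    | (have := key' _ _ (by norm_num) e; subst this; decide)
    | (have := key _ (by norm_num) e; subst this; exact absurd h (by decide +kernel))

theorem le_of_pow_dvd {p j : ℕ} (hp : p ∈ L6) (h : p ^ (j + 1) ∣ U0) : j ≤ 45 := by
  by_contra hc
  have h1 : p ^ 47 ∣ U0 := (pow_dvd_pow p (by omega)).trans h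
  have h2 : ∀ q ∈ L6, ¬ q ^ 47 ∣ U0 := by decide +kernel
  exact h2 p hp h1

theorem prime_of_mem {p : ℕ} (hp : p ∈ L6) : p.Prime := by
  have h2 : ∀ q ∈ L6, q.Prime := by decide +kernel
  exact h2 p hp

/-- `NT T t p` follows from the data -/
def ntB (cb : List (ℕ × ℕ × ℕ)) (nt : List (ℕ × ℕ)) (t p : ℕ) : Prop :=
  (t, p) ∈ nt ∨ ∃ c ∈ cb, c.1 = t ∧ c.2.1 = p ∧ ∀ j ≤ c.2.2, 0 < j → ¬ t ∣ p ^ j - 1

instance decNtB (cb : List (ℕ × ℕ × ℕ)) (nt : List (ℕ × ℕ)) (t p : ℕ) : Decidable (ntB cb nt t p) := by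
  unfold ntB; infer_instance

/-- the cube lemma applies -/
def cubeB (cb : List (ℕ × ℕ × ℕ)) (r m t : ℕ) : Prop :=
  t ≠ 2 ∧ ∃ c ∈ cb, c.1 = t ∧ c.2.1 = r ∧ ¬ t ^ 2 ∣ GLp r c.2.2 ∧ (∀ i ≤ m, 0 < i → ¬ t ^ 2 ∣ r ^ i - 1) ∧
    ∀ i ≤ m, 0 < i → i * t ≤ m → ¬ t ∣ r ^ i - 1

instance decCubeB (cb : List (ℕ × ℕ × ℕ)) (r m t : ℕ) : Decidable (cubeB cb r m t) := by
  unfold cubeB; infer_instance

/-- `t` is not a good prime -/
def deadB (cb : List (ℕ × ℕ × ℕ)) (nt : List (ℕ × ℕ)) (g r m t : ℕ) : Prop :=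
  ¬ t ^ 2 ∣ g ∨ (t ≠ 2 ∧ ntB cb nt t r) ∨ ((¬ t ^ 3 ∣ g ∨ cubeB cb r m t) ∧
    ∀ p ∈ L6, p = r ∨ p = t ∨ ntB cb nt t p ∨ (p ≠ 2 ∧ ntB cb nt p r) ∨ ∀ j ≤ 45, 0 < j → t ∣ p ^ j - 1 → ¬ p ^ (j + 1) ∣ g)

instance decDeadB (cb : List (ℕ × ℕ × ℕ)) (nt : List (ℕ × ℕ)) (g r m t : ℕ) : Decidable (deadB cb nt g r m t) := by
  unfold deadB; infer_instance

/-- the exponent bound for `|Q|` -/
def mm (n r : ℕ) : ℕ := ((List.range 50).filter fun i => r ^ (i + 4) ∣ n).length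

/-- all primes outside `al` are dead -/
def chkA (cb : List (ℕ × ℕ × ℕ)) (nt : List (ℕ × ℕ)) (n r : ℕ) (al : List ℕ) : Prop :=
  ¬ r ^ (mm n r + 4) ∣ n ∧ ∀ t ∈ L6, t = r ∨ t ∈ al ∨ deadB cb nt (Nat.gcd n (GLp r (mm n r))) r (mm n r) t

instance decChkA (cb : List (ℕ × ℕ × ℕ)) (nt : List (ℕ × ℕ)) (n r : ℕ) (al : List ℕ) : Decidable (chkA cb nt n r al) := by
  unfold chkA; infer_instance

/-- at most one prime is alive -/
def chk (cb : List (ℕ × ℕ × ℕ)) (nt : List (ℕ × ℕ)) (n r : ℕ) : Prop :=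
  ¬ r ^ 4 ∣ n ∨ ∃ s ∈ L6, chkA cb nt n r [s]

instance decChk (cb : List (ℕ × ℕ × ℕ)) (nt : List (ℕ × ℕ)) (n r : ℕ) : Decidable (chk cb nt n r) := by
  unfold chk; infer_instance

/-- the data hold in `T` -/
structure Dat {G : Type*} [Group G] (T : Subgroup G) (n : ℕ) (cb : List (ℕ × ℕ × ℕ)) (nt : List (ℕ × ℕ)) : Prop where
  card : Nat.card T = n
  dvd : n ∣ U0
  cb : ∀ c ∈ cb, CB T c.1 (c.2.1 ^ (c.2.2 + 1))
  nt : ∀ c ∈ nt, NT T c.1 c.2

variable {G : Type*} [Group G] [Finite G] {T H Q : Subgroup G} {r : ℕ} {Ya Yb : Set G} {da db : ℕ}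
  {n : ℕ} {cb : List (ℕ × ℕ × ℕ)} {nt : List (ℕ × ℕ)}

theorem Dat.NT (d : Dat T n cb nt) {t p : ℕ} (ht : t.Prime) (hp : p.Prime) (htp : t ≠ p) (h : ntB cb nt t p) :
    NT T t p := by
  rcases h with h | ⟨c, hc, rfl, rfl, h⟩
  · exact d.nt _ h
  · exact NT_of_CB ht hp htp (d.cb c hc) fun j h0 hj => h j hj h0

theorem Dat.pow_dvd (d : Dat T n cb nt) (h : Cfg T H Q r Ya Yb da db) {m p k : ℕ} (hm : ¬ r ^ (m + 1) ∣ Nat.card Q)
    (hp : p.Prime) (hpr : p ≠ r) (hk : p ^ k ∣ Nat.card (T ⊓ H : Subgroup G)) : p ^ k ∣ Nat.gcd n (GLp r m) :=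
  Nat.dvd_gcd (d.card ▸ hk.trans (card_dvd_of_le inf_le_left)) (pow_dvd_GLp h hm hp hpr hk)

theorem Dat.not_cube (d : Dat T n cb nt) (h : Cfg T H Q r Ya Yb da db) {m t : ℕ} (hm : ¬ r ^ (m + 1) ∣ Nat.card Q)
    (ht : t.Prime) (htr : t ≠ r) (hc : cubeB cb r m t) : ¬ t ^ 3 ∣ Nat.card (T ⊓ H : Subgroup G) := by
  obtain ⟨h2, c, hc, rfl, rfl, h3, h4, h5⟩ := hc
  refine Spor.not_cube h ht htr h2 hm (d.cb c hc) h3 (fun i h0 hi => h4 i hi h0) fun i h0 hi => h5 i ?_ h0 hi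
  exact le_trans (Nat.le_mul_of_pos_right i ht.pos) hi

theorem Dat.not_good (d : Dat T n cb nt) (h : Cfg T H Q r Ya Yb da db) {m t : ℕ} (hm : ¬ r ^ (m + 1) ∣ Nat.card Q)
    (hd : deadB cb nt (Nat.gcd n (GLp r m)) r m t) : ¬ Good Q H Yb t := by
  intro g
  have htr := g.ne h
  rcases hd with hd | ⟨h2, hd⟩ | ⟨h3, hd⟩
  · exact hd (d.pow_dvd h hm g.1 htr (g.sq_dvd h))
  · exact not_NT h g.1 htr h2 g.dvd_card (d.NT g.1 h.prime htr hd)
  rcases g.dich' h with e | ⟨p, hp, hpr, hpt, h1, h2, j, hj, h4, h5⟩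
  · rcases h3 with h3 | h3
    · exact h3 (d.pow_dvd h hm g.1 htr e)
    · exact d.not_cube h hm g.1 htr h3 e
  have h6 := d.pow_dvd h hm hp hpr h5
  have h7 : p ^ (j + 1) ∣ U0 := h6.trans ((Nat.gcd_dvd_left _ _).trans d.dvd)
  have hL : p ∈ L6 := mem_L6 hp ((pow_dvd_pow p (by omega)).trans h7)
  rcases hd p hL with e | e | e | ⟨e2, e⟩ | e
  · exact hpr e
  · exact hpt e
  · exact h1 (d.NT g.1 hp hpt.symm e)
  · exact not_NT h.symm hp hpr e2 h2 (d.NT hp h.prime hpr e)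
  · exact e j (le_of_pow_dvd hL h7) hj h4 h6

theorem Dat.good_mem (d : Dat T n cb nt) (h : Cfg T H Q r Ya Yb da db) {t : ℕ} (g : Good Q H Yb t) : t ∈ L6 :=
  mem_L6 g.1 ((g.sq_dvd h).trans ((card_dvd_of_le inf_le_left).trans (d.card ▸ d.dvd)))

theorem Dat.r_mem (d : Dat T n cb nt) (h : Cfg T H Q r Ya Yb da db) : r ∈ L6 :=
  mem_L6 h.prime ((pow_dvd_pow r (by norm_num)).trans ((pow_four_dvd h).trans (d.card ▸ d.dvd)))

/-- the good primes are alive -/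
theorem Dat.mem_alive (d : Dat T n cb nt) (h : Cfg T H Q r Ya Yb da db) {al : List ℕ} (hc : chkA cb nt n r al) {t : ℕ}
    (g : Good Q H Yb t) : t ∈ al := by
  rcases hc.2 t (d.good_mem h g) with e | e | e
  · exact absurd e (g.ne h)
  · exact e
  · exact absurd g (d.not_good h (not_pow_dvd_Q h (d.card ▸ hc.1)) e)

theorem Dat.false_of_chk (d : Dat T n cb nt) (h : Cfg T H Q r Ya Yb da db) (hc : chk cb nt n r) : False := by
  rcases hc with hc | ⟨s0, -, hc⟩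
  · exact hc (d.card ▸ pow_four_dvd h)
  obtain ⟨t, gt⟩ := exists_good h
  obtain ⟨s, gs⟩ := exists_good h.symm
  have h1 := d.mem_alive h hc gt
  have h2 := d.mem_alive h.symm hc gs
  rw [List.mem_singleton] at h1 h2
  exact gt.ne_of h gs (h2.trans h1.symm)

/-- the test for all characteristics outside `ex` -/
theorem Dat.mem_ex (d : Dat T n cb nt) (h : Cfg T H Q r Ya Yb da db) {ex : List ℕ}
    (hc : ∀ r ∈ L6, r ∈ ex ∨ chk cb nt n r) : r ∈ ex :=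
  (hc r (d.r_mem h)).resolve_right (d.false_of_chk h)

theorem Dat.false_of (d : Dat T n cb nt) (h : Cfg T H Q r Ya Yb da db) (hc : ∀ r ∈ L6, chk cb nt n r) : False :=
  d.false_of_chk h (hc r (d.r_mem h))

/-- two alive primes -/
theorem Dat.two (d : Dat T n cb nt) (h : Cfg T H Q r Ya Yb da db) {s t : ℕ} (hc : chkA cb nt n r [s, t]) :
    (Good Q H Ya s ∧ Good Q H Yb t ∧ ∀ p, Good Q H Yb p → p = t) ∨
      (Good Q H Yb s ∧ Good Q H Ya t ∧ ∀ p, Good Q H Ya p → p = t) := by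
  obtain ⟨b, gb⟩ := exists_good h
  obtain ⟨a, ga⟩ := exists_good h.symm
  have h1 := d.mem_alive h hc gb
  have h2 := d.mem_alive h.symm hc ga
  have h3 := gb.ne_of h ga
  simp only [List.mem_cons, List.not_mem_nil, or_false] at h1 h2
  rcases h1 with rfl | rfl <;> rcases h2 with rfl | rfl
  · exact absurd rfl h3
  · refine Or.inr ⟨gb, ga, fun p gp => ?_⟩
    have h4 := d.mem_alive h.symm hc gp
    simp only [List.mem_cons, List.not_mem_nil, or_false] at h4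
    exact h4.resolve_left (gb.ne_of h gp)
  · refine Or.inl ⟨ga, gb, fun p gp => ?_⟩
    have h4 := d.mem_alive h hc gp
    simp only [List.mem_cons, List.not_mem_nil, or_false] at h4
    exact h4.resolve_left (gp.ne_of h ga).symm
  · exact absurd rfl h3

/-! ### Models -/

section model

variable {Y : Type*} [Group Y]

omit [Finite G] in
theorem card_cent_eq (e : T ≃* Y) (x : T) :
    Nat.card (T ⊓ centralizer ({(x : G)} : Set G) : Subgroup G) = Nat.card (centralizer ({e x} : Set Y)) := by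
  refine Nat.card_congr
    { toFun := fun g => ⟨e ⟨g, g.2.1⟩, mem_centralizer_singleton_iff.2 (by
        rw [← map_mul, ← map_mul]
        exact congrArg e (Subtype.ext (mem_centralizer_singleton_iff.1 g.2.2)))⟩
      invFun := fun y => ⟨e.symm y, (e.symm y).2, mem_centralizer_singleton_iff.2 (by
        have h1 := congrArg e.symm (mem_centralizer_singleton_iff.1 y.2)
        rw [map_mul, map_mul, e.symm_apply_apply] at h1
        exact congrArg Subtype.val h1)⟩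
      left_inv := fun g => by simp
      right_inv := fun y => by simp }

omit [Finite G] in
theorem CB_of (e : T ≃* Y) {t n : ℕ} (h : ∀ y : Y, orderOf y = t → ¬ n ∣ Nat.card (centralizer ({y} : Set Y))) :
    CB T t n := by
  intro x hx ho
  rw [card_cent_eq e ⟨x, hx⟩]
  exact h _ (by rw [MulEquiv.orderOf_eq, ← orderOf_coe]; exact ho)

omit [Finite G] in
theorem NT_of (e : T ≃* Y) {t p : ℕ} (h : NT (⊤ : Subgroup Y) t p) : NT T t p := by
  rintro x hx ho w hw ⟨k, hk⟩ hc S hS hSp hn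
  have h1 := h (e ⟨x, hx⟩) trivial (by rw [MulEquiv.orderOf_eq, ← orderOf_coe]; exact ho) (e ⟨w, hw⟩) trivial
    ⟨k, by rw [← map_pow, map_eq_one_iff _ e.injective]; exact Subtype.ext hk⟩
    (by rw [← map_mul, ← map_mul]; exact congrArg e (Subtype.ext hc))
    ((S.subgroupOf T).map e.toMonoidHom) (by
      rintro _ ⟨s, hs, rfl⟩
      refine ⟨trivial, mem_centralizer_singleton_iff.2 ?_⟩
      change e s * e _ = e _ * e s
      rw [← map_mul, ← map_mul]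
      exact congrArg e (Subtype.ext (mem_centralizer_singleton_iff.1 (hS hs).2))) (hSp.comap_subtype.map _) (by
      refine norm_of_conj (A := zpowers (e ⟨w, hw⟩)) ?_ (mem_zpowers _)
      rintro _ ⟨i, rfl⟩ _ ⟨s, hs, rfl⟩
      refine ⟨(⟨w, hw⟩ : T) ^ i * s * ((⟨w, hw⟩ : T) ^ i)⁻¹, ?_, by simp⟩
      exact conj_mem_of_norm (G := G) (zpowers_le.2 hn) ⟨i, rfl⟩ hs)
  rw [mem_centralizer_iff] at h1 ⊢
  intro s hs
  have h2 := h1 (e ⟨s, (hS hs).1⟩) ⟨_, hs, rfl⟩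
  rw [← map_mul, ← map_mul] at h2
  exact congrArg Subtype.val (e.injective h2)

omit [Finite G] in
theorem dat_of (e : T ≃* Y) (hn : Nat.card Y = n) (hU : n ∣ U0)
    (h1 : ∀ c ∈ cb, ∀ y : Y, orderOf y = c.1 → ¬ c.2.1 ^ (c.2.2 + 1) ∣ Nat.card (centralizer ({y} : Set Y)))
    (h2 : ∀ c ∈ nt, NT (⊤ : Subgroup Y) c.1 c.2) : Dat T n cb nt :=
  ⟨(Nat.card_congr e.toEquiv).trans hn, hU, fun c hc => CB_of e (h1 c hc), fun c hc => NT_of e (h2 c hc)⟩

end model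

end Cfsg.Agent.T44.Spor
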