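import Cfsg.Agent.T44.Spor.Chk
import Cfsg.Agent.NotCT.Orders
import Cfsg.Agent.H171.Odd.ConwayB
import Cfsg.Agent.H572.CoFiveThree
import Cfsg.Agent.H58.Mon.FiveB
import Cfsg.Agent.H978.NB.CoTwo
import Cfsg.Agent.H306.OdmRowCo2
import Cfsg.Agent.H502.TO.Loc
import Cfsg.Agent.H871.Th7.Main
import Cfsg.Agent.H559.FiSpec
import Cfsg.Agent.H841.PB.FiTwentyThreeA

/-!
# S3544, sporadic rows: `Co₁`, `Co₂`, `Th`, `Fi₂₂`, `Fi₂₃` (helper35)
-/

set_option autoImplicit false
set_option maxRecDepth 100000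

namespace Cfsg.Agent.T44.Spor

open Subgroup Cfsg
open Cfsg.Spor (Co1)

section co

open Cfsg.Agent.LThreeMB Cfsg.Agent.BpSpor.MBigModel

theorem co1_four {s : Co1} (hs : orderOf s = 5) (h : fr s = 2 ^ 4) :
    ¬ 2 ^ 8 ∣ Nat.card (centralizer ({s} : Set Co1)) := by
  intro hd
  have := finite
  have hp : Nat.Prime 5 := Nat.prime_five
  have ho : Odd 5 := by decide
  obtain ⟨x, hx, rfl⟩ := MFive.KPair.exists_order chart hp ho hs
  have I := CpAutBFive.Closed.coFive CpAutBFive.Final.hJ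
  obtain ⟨x₀, u, g, hx₀, hfr₀, huz, hux, hne, hg⟩ := BpSpor.M5.hasPair
  obtain ⟨k, i, hk⟩ := MFive.conj_pair chart hp ho BpSpor.M5.trNe (R := fun n => n = 2 ^ 8) I.ranks I.four
    (fun x hx h2 => ⟨(MFive.simple_of_isoHN (CpAutBFive.Closed.hnEight x hx h2)).1,
      (MFive.simple_of_isoHN (CpAutBFive.Closed.hnEight x hx h2)).2.1⟩) hx₀ hfr₀ huz hux hne hg hx h
  obtain ⟨e⟩ := MFive.exists_cent_equiv hp (x := (x : MG)) (y := (x₀ : MG)) (by rw [orderOf_coe, hx])
    (by rw [orderOf_coe, hx₀]) hk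
  have h1 := H58.MonFiveB.card_dvd hx₀ hfr₀
  rw [Nat.card_congr e.toEquiv] at h1
  have h2 := (be pi x).ker.card_mul_index
  rw [index_ker, MonoidHom.range_eq_top_of_surjective _
    (MFive.be_surj chart hp ho (by rw [← hx, pow_orderOf_eq_one])), card_top] at h2
  have hz : zz ∈ centralizer ({zz} : Set MG) ⊓ centralizer ({(x : MG)} : Set MG) := ⟨mem_centralizer_singleton_iff.2 rfl,
    mem_centralizer_singleton_iff.2 (mem_centralizer_singleton_iff.1 x.2).symm⟩
  have h3 : 2 ∣ Nat.card (be pi x).ker := by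
    have h4 := Subgroup.orderOf_dvd_natCard (be pi x).ker (x := ⟨zz, hz⟩) ((be_eq_one chart).2 chart.large.z_mem)
    rwa [orderOf_mk, orderOf_zz] at h4
  have h4 := (mul_dvd_mul h3 hd).trans (h2.dvd.trans ((card_dvd_of_le inf_le_right).trans h1))
  norm_num at h4

theorem co1_five {s : Co1} (hs : orderOf s = 5) :
    ¬ 3 ^ 4 ∣ Nat.card (centralizer ({s} : Set Co1)) ∧ ¬ 2 ^ 8 ∣ Nat.card (centralizer ({s} : Set Co1)) := by
  rcases CoFive.Ranks.ranks s hs with h | h | h
  · obtain ⟨e⟩ := MFive.JTwo.isoJ2 hs h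
    have h2 : Nat.card Cfsg.Spor.J2 = 604800 := Cfsg.Agent.S1619.result.2.2.2
    rw [H55.CoOneBd.card_cent_XX, hs, Nat.card_congr e.toEquiv, h2]
    norm_num
  · exact ⟨fun e => H572.CoFiveThree.cent_five_four hs h ((pow_dvd_pow 3 (by norm_num)).trans e), co1_four hs h⟩
  · rw [MFiveHN.UpEight.card_cent hs h]
    norm_num

theorem co2_five {s : Spor.Co2} (hs : orderOf s = 5) : ¬ 2 ^ 8 ∣ Nat.card (centralizer ({s} : Set Spor.Co2)) := by
  obtain ⟨f, hf⟩ := H306.OdmRowCo2.exists_co2_hom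
  intro hd
  refine (co1_five (s := f s) (by rw [orderOf_injective f hf, hs])).2 (hd.trans ?_)
  rw [← card_map_of_injective hf]
  refine card_dvd_of_le ?_
  rintro _ ⟨g, hg, rfl⟩
  rw [mem_centralizer_singleton_iff, ← map_mul, ← map_mul, mem_centralizer_singleton_iff.1 hg]

end co

variable {G : Type*} [Group G] [Finite G] {T H Q : Subgroup G} {r : ℕ} {Ya Yb : Set G} {da db : ℕ}
  (h : Cfg T H Q r Ya Yb da db)

include h

theorem false_of_cb {Y : Type*} [Group Y] (e : T ≃* Y) {n : ℕ} (hn : Nat.card T = n) {cb : List (ℕ × ℕ × ℕ)}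
    (h1 : ∀ c ∈ cb, ∀ y : Y, orderOf y = c.1 → ¬ c.2.1 ^ (c.2.2 + 1) ∣ Nat.card (centralizer ({y} : Set Y)))
    (hc : n ∣ U0 ∧ ∀ r ∈ L6, chk cb [] n r) : False :=
  (dat_of e ((Nat.card_congr e.toEquiv).symm.trans hn) hc.1 h1 fun _ e => absurd e List.not_mem_nil).false_of h hc.2

theorem row_co1 (e : Spor.IsoCo1 T) : False := by
  refine e.elim fun f => false_of_cb h f (NotCT.Orders.co1 e) (cb := [(5, 3, 3), (5, 2, 7), (7, 3, 5)]) ?_
    (by decide +kernel)
  intro c hc y hy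
  simp only [List.mem_cons, List.not_mem_nil, or_false] at hc
  rcases hc with rfl | rfl | rfl
  · exact (co1_five hy).1
  · exact (co1_five hy).2
  · exact fun hd => H171.Odd.CoOne.cent_seven hy ((pow_dvd_pow 3 (by norm_num)).trans hd)

theorem row_co2 (e : Spor.IsoCo2 T) : False := by
  refine e.elim fun f => false_of_cb h f (NotCT.Orders.co2 e) (cb := [(5, 3, 3), (5, 2, 7)]) ?_ (by decide +kernel)
  intro c hc y hy
  simp only [List.mem_cons, List.not_mem_nil, or_false] at hc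
  rcases hc with rfl | rfl
  · exact fun hd => H978.NB.CoTwo.not_nine hy ((show 9 ∣ 3 ^ (3 + 1) by norm_num).trans hd)
  · exact co2_five hy

theorem row_th (e : Spor.IsoTh T) : False := by
  refine e.elim fun f => false_of_cb h f (NotCT.Orders.th e) (cb := [(5, 2, 3), (7, 3, 5)]) ?_ (by decide +kernel)
  intro c hc y hy
  simp only [List.mem_cons, List.not_mem_nil, or_false] at hc
  rcases hc with rfl | rfl
  · rw [H502.TO.card_five hy]
    norm_num
  · rw [H871.Th7.card7 y hy]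
    norm_num

theorem row_fi22 (e : Spor.IsoFi22 T) : False := by
  refine false_of_cb h (MulEquiv.refl T) (NotCT.Orders.fi22 e) (cb := [(5, 3, 3)]) ?_ (by decide +kernel)
  intro c hc y hy
  obtain rfl := List.mem_singleton.1 hc
  rw [H559.FiSpec.cent5 e hy]
  norm_num

theorem row_fi23 (e : Spor.IsoFi23 T) : False := by
  refine e.elim fun f => false_of_cb h f (NotCT.Orders.fi23 e) (cb := [(5, 3, 3)]) ?_ (by decide +kernel)
  intro c hc y hy
  obtain rfl := List.mem_singleton.1 hc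
  rw [H841.PB.FiTwentyThree.card_cent_five hy]
  norm_num

end Cfsg.Agent.T44.Spor
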