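import Cfsg.Agent.T44.Spor.Chk
import Cfsg.Agent.NotCT.Orders

/-!
# S3544, sporadic rows: the groups which are excluded by their orders (helper35)
-/

set_option autoImplicit false

namespace Cfsg.Agent.T44.Spor

open Subgroup Cfsg

variable {G : Type*} [Group G] [Finite G] {T H Q : Subgroup G} {r : ℕ} {Ya Yb : Set G} {da db : ℕ}

theorem false_of_order (h : Cfg T H Q r Ya Yb da db) {n : ℕ} (hn : Nat.card T = n)
    (hc : n ∣ U0 ∧ ∀ r ∈ L6, chk [] [] n r) : False :=
  Dat.false_of (cb := []) (nt := []) ⟨hn, hc.1, fun _ e => absurd e List.not_mem_nil,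
    fun _ e => absurd e List.not_mem_nil⟩ h hc.2

variable (h : Cfg T H Q r Ya Yb da db)

include h

theorem row_m11 (e : Spor.IsoM11 T) : False := false_of_order h (NotCT.Orders.m11 e) (by decide +kernel)
theorem row_m12 (e : Spor.IsoM12 T) : False := false_of_order h (NotCT.Orders.m12 e) (by decide +kernel)
theorem row_m22 (e : Spor.IsoM22 T) : False := false_of_order h (NotCT.Orders.m22 e) (by decide +kernel)
theorem row_m23 (e : Spor.IsoM23 T) : False := false_of_order h (NotCT.Orders.m23 e) (by decide +kernel)
theorem row_m24 (e : Spor.IsoM24 T) : False := false_of_order h (NotCT.Orders.m24 e) (by decide +kernel)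
theorem row_j1 (e : Spor.IsoJ1 T) : False := false_of_order h (NotCT.Orders.j1 e) (by decide +kernel)
theorem row_j2 (e : Spor.IsoJ2 T) : False := false_of_order h (NotCT.Orders.j2 e) (by decide +kernel)
theorem row_j3 (e : Spor.IsoJ3 T) : False := false_of_order h (NotCT.Orders.j3 e) (by decide +kernel)
theorem row_j4 (e : Spor.IsoJ4 T) : False := false_of_order h (NotCT.Orders.j4 e) (by decide +kernel)
theorem row_co3 (e : Spor.IsoCo3 T) : False := false_of_order h (NotCT.Orders.co3 e) (by decide +kernel)
theorem row_mcl (e : Spor.IsoMcL T) : False := false_of_order h (NotCT.Orders.mcl e) (by decide +kernel)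
theorem row_hs (e : Spor.IsoHS T) : False := false_of_order h (NotCT.Orders.hs e) (by decide +kernel)
theorem row_he (e : Spor.IsoHe T) : False := false_of_order h (NotCT.Orders.he e) (by decide +kernel)
theorem row_ru (e : Spor.IsoRu T) : False := false_of_order h (NotCT.Orders.ru e) (by decide +kernel)
theorem row_on (e : Spor.IsoON T) : False := false_of_order h (NotCT.Orders.on e) (by decide +kernel)
theorem row_ly (e : Spor.IsoLy T) : False := false_of_order h (NotCT.Orders.ly e) (by decide +kernel)
theorem row_tits (e : Lie.IsoTits T) : False := false_of_order h (NotCT.Orders.tits e) (by decide +kernel)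

omit h in
/-- **the Tits group** -/
theorem boxTits : BoxTits := fun _ _ _ _ _ _ _ _ _ _ _ _ h hT => row_tits h.toCfg hT

end Cfsg.Agent.T44.Spor
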