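import Cfsg.Agent.T44.Spor.Act
import Cfsg.Agent.R2.M7.Geo

/-!
# S3544, sporadic rows: the 2-local geometry of the Monster, abstract part (helper35)

* `YF Γ` : the facts on the geometry;
* `YF.false_M` : no configuration of characteristic two in the group itself;
* `YF.false_B` : the centralizer of an involution which is not a point.
-/

set_option autoImplicit false
set_option linter.style.haveILetI false

namespace Cfsg.Agent.T44.Spor

open Subgroup Cfsg Cfsg.Agent.R2.M7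
open scoped commutatorElement

variable {G : Type*} [Group G]

/-- the facts on the geometry -/
structure YF (Γ : Geo G) : Prop where
  facts : Γ.Facts
  mainC : Γ.MainC
  sep : ∀ z ∈ Γ.Pt, ∀ K : Subgroup G, K ≤ Γ.QQ z → z ∈ K → ∀ u ∈ Γ.QQ z, u ∉ K →
    ∃ q ∈ Γ.QQ z, (∀ k ∈ K, q * k = k * q) ∧ q * u ≠ u * q
  syl : ∀ T : Subgroup G, IsPGroup 2 T → ∃ z ∈ Γ.Pt, ∀ x ∈ T, x * z = z * x
  four : ∀ u ∈ Γ.Pt, ∀ v ∈ Γ.Pt, v ∈ Γ.QQ u → v ≠ u →
    ¬ 5 ^ 2 ∣ Nat.card (centralizer ({u} : Set G) ⊓ centralizer ({v} : Set G) : Subgroup G)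
  ark5 : ∀ O ∈ Γ.Ark, ¬ 5 ^ 3 ∣ Nat.card (normalizer (O : Set G))
  arkS : ∀ O ∈ Γ.Ark, ∀ A B : Subgroup G, A ≤ normalizer (O : Set G) → B ≤ normalizer (O : Set G) →
    normalizer (O : Set G) ≤ normalizer (A : Set G) → normalizer (O : Set G) ≤ normalizer (B : Set G) →
    ⁅A, B⁆ ≤ centralizer (O : Set G) → IsPGroup 2 A ∨ IsPGroup 2 B
  c127 : ¬ 127 ∣ Nat.card G

theorem not_cube_mul {a b : ℕ} (ha : ¬ 5 ^ 2 ∣ a) (hb : ¬ 5 ^ 2 ∣ b) : ¬ 5 ^ 3 ∣ a * b := by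
  intro h
  have h1 : a ≠ 0 := fun e => ha (e ▸ dvd_zero _)
  have h2 : b ≠ 0 := fun e => hb (e ▸ dvd_zero _)
  rw [Nat.prime_five.pow_dvd_iff_le_factorization h1] at ha
  rw [Nat.prime_five.pow_dvd_iff_le_factorization h2] at hb
  rw [Nat.prime_five.pow_dvd_iff_le_factorization (mul_ne_zero h1 h2), Nat.factorization_mul h1 h2,
    Finsupp.add_apply] at h
  omega

/-- the subgroup generated by `A` and `v` -/
def adj (A : Subgroup G) (v : G) (hv : v * v = 1) (hc : ∀ a ∈ A, a * v = v * a) : Subgroup G where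
  carrier := {x | x ∈ A ∨ x * v ∈ A}
  one_mem' := Or.inl A.one_mem
  mul_mem' := by
    rintro a b (ha | ha) (hb | hb)
    · exact Or.inl (A.mul_mem ha hb)
    · exact Or.inr (by rw [mul_assoc]; exact A.mul_mem ha hb)
    · refine Or.inr ?_
      rw [mul_assoc, hc b hb, ← mul_assoc]
      exact A.mul_mem ha hb
    · refine Or.inl ?_
      have h1 := A.mul_mem ha hb
      rwa [mul_assoc, ← hc _ hb, mul_assoc b, hv, mul_one] at h1
  inv_mem' := by
    rintro a (ha | ha)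
    · exact Or.inl (A.inv_mem ha)
    · refine Or.inr ?_
      have h1 := A.inv_mem ha
      have h2 := hc _ h1
      rw [mul_inv_rev, inv_eq_of_mul_eq_one_left hv, ← mul_assoc, hv, one_mul] at h2
      have h3 : a⁻¹ * v = v * a⁻¹ := by
        calc a⁻¹ * v = v * a⁻¹ * v * v := by rw [h2]
          _ = _ := by rw [mul_assoc, hv, mul_one]
      rwa [mul_inv_rev, inv_eq_of_mul_eq_one_left hv, ← h3] at h1

theorem mem_adj {A : Subgroup G} {v : G} {hv : v * v = 1} {hc : ∀ a ∈ A, a * v = v * a} {x : G} :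
    x ∈ adj A v hv hc ↔ x ∈ A ∨ x * v ∈ A := Iff.rfl

theorem adj_le {A B : Subgroup G} {v : G} {hv : v * v = 1} {hc : ∀ a ∈ A, a * v = v * a} (h1 : A ≤ B) (h2 : v ∈ B) :
    adj A v hv hc ≤ B := by
  rintro x (hx | hx)
  · exact h1 hx
  · exact (B.mul_mem_cancel_right h2).1 (h1 hx)

namespace YF

variable {Γ : Geo G} (X : YF Γ)
include X

theorem sing_comm {F : Subgroup G} (hF : Γ.Sing F) : ∀ a ∈ F, ∀ b ∈ F, a * b = b * a := by
  intro a ha b hb
  by_cases h : b = 1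
  · rw [h, mul_one, one_mul]
  · exact X.facts.basic.QQ_comm b (hF.1 b hb h) a (hF.2 b hb h a ha)

theorem sing_sq {F : Subgroup G} (hF : Γ.Sing F) : ∀ a ∈ F, a * a = 1 := by
  intro a ha
  by_cases h : a = 1
  · rw [h, mul_one]
  · exact X.facts.basic.pt_sq a (hF.1 a ha h)

theorem sing_pg {F : Subgroup G} (hF : Γ.Sing F) : IsPGroup 2 F := fun x => ⟨1, Subtype.ext (by
  rw [pow_one, pow_two]
  exact X.sing_sq hF x x.2)⟩

/-- transvections -/
theorem exists_tv {z : G} (hz : z ∈ Γ.Pt) {A : Subgroup G} (hA : A ≤ Γ.QQ z) {u : G} (hu : u ∈ Γ.QQ z) (h1 : u ∉ A)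
    (h2 : u * z ∉ A) : ∃ q ∈ Γ.QQ z, (∀ a ∈ A, q * a = a * q) ∧ q * u * q⁻¹ = z * u := by
  have B := X.facts.basic
  obtain ⟨q, hq, h3, h4⟩ := X.sep z hz (adj A z (B.pt_sq z hz) fun a ha => B.QQ_comm z hz a (hA ha))
    (adj_le hA (B.QQ_self z hz)) (Or.inr (by rw [B.pt_sq z hz]; exact A.one_mem)) u hu fun e => e.elim h1 h2
  refine ⟨q, hq, fun a ha => h3 a (Or.inl ha), ?_⟩
  rcases B.QQ_der z hz q hq u hu with e | e
  · exact absurd (mul_inv_eq_iff_eq_mul.1 (mul_inv_eq_one.1 e)) h4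
  · exact mul_inv_eq_iff_eq_mul.1 e

theorem QQ_le_norm {F : Subgroup G} (hF : Γ.Sing F) {z : G} (hz : z ∈ F) (h1 : z ≠ 1) :
    Γ.QQ z ≤ normalizer (F : Set G) := by
  refine norm_of_conj fun q hq f hf => ?_
  rcases X.facts.basic.QQ_der z (hF.1 z hz h1) q hq f (hF.2 z hz h1 f hf) with e | e
  · rwa [mul_inv_eq_one.1 e]
  · rw [mul_inv_eq_iff_eq_mul.1 e]
    exact F.mul_mem hz hf

theorem norm_QQ {z : G} (hz : z ∈ Γ.Pt) : centralizer ({z} : Set G) ≤ normalizer (Γ.QQ z : Set G) := by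
  refine norm_of_conj fun g hg q hq => ?_
  have h1 := X.facts.basic.QQ_conj z hz g q hq
  rwa [mem_centralizer_singleton_iff.1 hg, mul_inv_cancel_right] at h1

/-- the centre of `Q_z` -/
theorem eq_of_cent {z w : G} (hz : z ∈ Γ.Pt) (h1 : w ≠ 1) (h : ∀ q ∈ Γ.QQ z, q * w = w * q) : w = z := by
  have B := X.facts.basic
  by_contra hne
  obtain ⟨q, hq, -, h2⟩ := X.exists_tv hz (A := ⊥) bot_le (B.QQ_cent z hz w fun q hq => (h q hq).symm)
    (fun e => h1 (mem_bot.1 e)) fun e => hne (by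
      calc w = w * z * z := by rw [mul_assoc, B.pt_sq z hz, mul_one]
        _ = z := by rw [mem_bot.1 e, one_mul])
  rw [h q hq, mul_inv_cancel_right, right_eq_mul] at h2
  exact B.pt_ne z hz h2

/-- the structure of `N(T)` if `C(T) ≤ T` -/
theorem struct {T H : Subgroup G} (hT : IsPGroup 2 T) (hC : centralizer (T : Set G) ≤ T)
    (hH : H ≤ normalizer (T : Set G)) : ∃ F : Subgroup G, F ≠ ⊥ ∧ F ≤ T ∧ T ≤ centralizer (F : Set G) ∧
      H ≤ normalizer (F : Set G) ∧ (F ∈ Γ.Ark ∨ Γ.Sing F) := by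
  have B := X.facts.basic
  let Z : Subgroup G :=
    { carrier := {x | x * x = 1 ∧ ∀ s ∈ T, s * x = x * s}
      one_mem' := ⟨mul_one _, fun s _ => by rw [mul_one, one_mul]⟩
      mul_mem' := by
        rintro a b ⟨ha, ha'⟩ ⟨hb, hb'⟩
        refine ⟨?_, fun s hs => by rw [← mul_assoc, ha' s hs, mul_assoc, hb' s hs, mul_assoc]⟩
        have h1 := hb' a (hC (mem_centralizer_iff.2 ha'))
        calc a * b * (a * b) = a * (b * a) * b := by group
          _ = (a * a) * (b * b) := by rw [← h1]; group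
          _ = 1 := by rw [ha, hb, mul_one]
      inv_mem' := by
        rintro a ⟨ha, ha'⟩
        rw [inv_eq_of_mul_eq_one_left ha]
        exact ⟨ha, ha'⟩ }
  have hZT : Z ≤ T := fun x hx => hC (mem_centralizer_iff.2 hx.2)
  have hTZ : T ≤ centralizer (Z : Set G) := fun s hs => mem_centralizer_iff.2 fun x hx => (hx.2 s hs).symm
  have hS : Γ.Sit T Z :=
    { two := hT
      comm := fun x hx => hx.2
      ab := fun x hx y hy => hy.2 x (hZT hx)
      sq := fun x hx => hx.1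
      all := fun x h1 h2 => ⟨h1, h2⟩
      pt := by
        obtain ⟨z, hz, hz'⟩ := X.syl T hT
        exact ⟨z, ⟨B.pt_sq z hz, hz'⟩, hz⟩ }
  have hHZ : ∀ g ∈ H, ∀ x ∈ Z, g * x * g⁻¹ ∈ Z := by
    rintro g hg x ⟨hx, hx'⟩
    refine ⟨?_, fun s hs => ?_⟩
    · calc g * x * g⁻¹ * (g * x * g⁻¹) = g * (x * x) * g⁻¹ := by group
        _ = 1 := by rw [hx]; group
    · have h1 := hx' _ (conj_mem_of_norm' hH hg hs)
      calc s * (g * x * g⁻¹) = g * (g⁻¹ * s * g * x) * g⁻¹ := by group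
        _ = _ := by rw [h1]; group
  rcases X.mainC T Z hS with hZ | ⟨F, h0, hFZ, hF, hinv⟩
  · refine ⟨Z, fun e => ?_, hZT, hTZ, norm_of_conj hHZ, Or.inl hZ⟩
    have h1 := X.facts.ark.card Z hZ
    rw [e, card_bot] at h1
    norm_num at h1
  · exact ⟨F, h0, hFZ.trans hZT, hTZ.trans (centralizer_le hFZ), norm_of_conj fun g hg => hinv g (hHZ g hg),
      Or.inr hF⟩

variable [Finite G]

/-! ### The Monster -/

section monster

variable {H Q F : Subgroup G} {Ya Yb : Set G} {da db : ℕ} (h : Cfg ⊤ H Q 2 Ya Yb da db) (hF : Γ.Sing F) (h0 : F ≠ ⊥)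
  (hFQ : F ≤ Q) (hn : H ≤ normalizer (F : Set G))
include h hF h0 hFQ hn

theorem meet {y : G} (hy : y ∈ Ya) : F ⊓ cj y F ≠ ⊥ := by
  obtain ⟨R, hR⟩ := exists_syl' Nat.prime_two (⊤ ⊓ H ⊓ cj y H)
  have hR' : Syl 2 R (⊤ ⊓ H) := hR.trans Nat.prime_two inf_le_left (by
    rw [inf_relIndex_left]
    exact h.not_r_idx_a hy)
  have hRH : R ≤ H := hR'.le.trans inf_le_right
  obtain ⟨z, hz, ho, hc⟩ := exists_central Nat.prime_two hR.pg (hFQ.trans (h.Q_le_syl hR')) h0 (hRH.trans hn)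
  have hD := Cfg.D_norm_cj (T := ⊤) hn y
  obtain ⟨w, hw, ho', hc'⟩ := exists_central Nat.prime_two hR.pg (hR.le_of_norm Nat.prime_two
    ((cj_mono y hFQ).trans (h.cj_Q_le_D hy)) hD (isPGroup_cj y (X.sing_pg hF))) (cj_ne_bot y h0) (hR.le.trans hD)
  have hz1 : z ≠ 1 := fun e => by rw [e, orderOf_one] at ho; omega
  have hw1 : w ≠ 1 := fun e => by rw [e, orderOf_one] at ho'; omega
  have hzP := hF.1 z hz hz1
  have h1 : R ⊔ Γ.QQ z = R := hR'.eq_of_le Nat.prime_two (sup_le hR'.le (le_inf le_top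
    ((X.QQ_le_norm hF hz hz1).trans (h.norm_le (hFQ.trans h.Q_le_H) h0 hn))))
    (isPGroup_sup hR.pg (X.facts.basic.QQ_two z hzP)
      (le_trans (fun g hg => mem_centralizer_singleton_iff.2 (hc g hg)) (X.norm_QQ hzP))) le_sup_left
  have h2 : w = z := X.eq_of_cent hzP hw1 fun q hq => hc' q (h1 ▸ mem_sup_right hq)
  intro e
  exact hz1 (mem_bot.1 (e ▸ (⟨hz, h2 ▸ hw⟩ : z ∈ F ⊓ cj y F)))

omit X hF h0 hFQ in
theorem card_const {y z : G} (hy : y ∈ Ya) (hz : z ∈ Yb) {m : G} (hm : m ∈ H) :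
    Nat.card ((F ⊓ cj y F) ⊓ cj m (F ⊓ cj z F) : Subgroup G) =
      Nat.card ((F ⊓ cj y F) ⊓ (F ⊓ cj z F) : Subgroup G) := by
  obtain ⟨a, ha, b, hb, rfl⟩ := h.factor hy hz (m := m) ⟨trivial, hm⟩
  have key : ∀ w : G, ⊤ ⊓ H ⊓ cj w H ≤ normalizer ((F ⊓ cj w F : Subgroup G) : Set G) := fun w =>
    norm_inf ((inf_le_left.trans inf_le_right).trans hn) (Cfg.D_norm_cj hn w)
  rw [cj_mul, cj_eq_iff.2 (key z hb)]
  conv_lhs => rw [← cj_eq_iff.2 (key y ha), ← cj_inf, card_cj]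

theorem not_le {y z : G} (hy : y ∈ Ya) (hz : z ∈ Yb) : ¬ F ⊓ cj z F ≤ F ⊓ cj y F := by
  intro e
  have hFH := hFQ.trans h.Q_le_H
  obtain ⟨v, hv, hv'⟩ := SetLike.not_le_iff_exists.1 (h.not_le_cj hFH h0 hn (h.A.notMem y hy))
  obtain ⟨⟨w, hw⟩, hw1⟩ := ne_bot_iff_exists_ne_one.1 (X.meet h.symm hF h0 hFQ hn hz)
  have hv1 : v ≠ 1 := fun e => hv' (e ▸ one_mem _)
  obtain ⟨q, hq, -, h2⟩ := X.exists_tv (hF.1 v hv hv1) (A := ⊥) bot_le (hF.2 v hv hv1 w hw.1)
    (fun e => hw1 (Subtype.ext (mem_bot.1 e))) fun e' => hv' (by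
      rw [eq_inv_of_mul_eq_one_right (mem_bot.1 e')]
      exact inv_mem (e hw).2)
  have h3 := card_const h hn hy hz (h.norm_le hFH h0 hn (X.QQ_le_norm hF hv hv1 hq))
  rw [inf_eq_right.2 e, ← card_cj q (F ⊓ cj z F)] at h3
  have h4 := eq_of_le_of_card_ge inf_le_right h3.ge
  have h5 : q * w * q⁻¹ ∈ (F ⊓ cj y F) ⊓ cj q (F ⊓ cj z F) := by
    rw [h4]
    exact conj_mem_cj hw q
  rw [h2] at h5
  exact hv' (((cj y F).mul_mem_cancel_right (e hw).2).1 h5.1.2)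

theorem false_sing : False := by
  obtain ⟨y, hy⟩ := h.A.ne
  obtain ⟨z, hz⟩ := h.B.ne
  obtain ⟨w, hw, hw'⟩ := SetLike.not_le_iff_exists.1 (X.not_le h hF h0 hFQ hn hy hz)
  obtain ⟨u, hu, hu'⟩ := SetLike.not_le_iff_exists.1 (X.not_le h.symm hF h0 hFQ hn hz hy)
  have hv : u * w ∈ F := F.mul_mem hu.1 hw.1
  have hv1 : u * w ≠ 1 := fun e => hw' (by
    rw [eq_inv_of_mul_eq_one_right e]
    exact inv_mem hu)
  have e1 : u * w * w = u := by rw [mul_assoc, X.sing_sq hF w hw.1, mul_one]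
  obtain ⟨q, hq, h1, h2⟩ := X.exists_tv (hF.1 _ hv hv1) (A := (F ⊓ cj y F) ⊓ (F ⊓ cj z F))
    (fun a ha => hF.2 _ hv hv1 a ha.1.1) (hF.2 _ hv hv1 w hw.1) (fun e => hw' e.1) fun e => hu' (by
      rw [X.sing_comm hF w hw.1 _ hv, e1] at e
      exact e.2)
  have h3 := card_const h hn hy hz (h.norm_le (hFQ.trans h.Q_le_H) h0 hn (X.QQ_le_norm hF hv hv1 hq))
  have h4 : (F ⊓ cj y F) ⊓ (F ⊓ cj z F) ≤ (F ⊓ cj y F) ⊓ cj q (F ⊓ cj z F) := by
    refine fun a ha => ⟨ha.1, ?_⟩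
    have h5 := conj_mem_cj ha.2 q
    rwa [h1 a ha, mul_inv_cancel_right] at h5
  have h5 : u ∈ (F ⊓ cj y F) ⊓ cj q (F ⊓ cj z F) := by
    refine ⟨hu, ?_⟩
    have h6 := conj_mem_cj hw q
    rwa [h2, e1] at h6
  rw [← eq_of_le_of_card_ge h4 h3.le] at h5
  exact hu' h5.2

end monster

/-- **The Monster.** -/
theorem false_M {H Q : Subgroup G} {Ya Yb : Set G} {da db : ℕ} (h : Cfg ⊤ H Q 2 Ya Yb da db) : False := by
  obtain ⟨F, h0, hFQ, hc, hn, hF | hF⟩ := X.struct h.isO.pg (fun x hx => h.cent_Q ⟨trivial, hx⟩) h.H_norm_Q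
  · have h1 := h.norm_le (hFQ.trans h.Q_le_H) h0 hn
    exact (X.arkS F hF _ _ ((h.La_le_M.trans inf_le_right).trans hn) ((h.Lb_le_M.trans inf_le_right).trans hn)
      (h1.trans h.H_norm_La) (h1.trans h.H_norm_Lb) (h.comm_le.trans hc)).elim h.not_pg_La h.symm.not_pg_La
  · exact X.false_sing h hF h0 hFQ hn

/-! ### The Baby Monster -/

theorem card_sing {F : Subgroup G} (hF : Γ.Sing F) : ¬ 2 ^ (6 + 1) ∣ Nat.card F := by
  intro hd
  obtain ⟨K, hK⟩ := Sylow.exists_subgroup_card_pow_prime 2 hd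
  set E : Subgroup G := K.map F.subtype with hE
  have hEF : E ≤ F := map_subtype_le _
  have hc : Nat.card E = 2 ^ (6 + 1) := by rw [hE, card_map_of_injective F.subtype_injective, hK]
  have hS : Γ.Sing E := ⟨fun x hx => hF.1 x (hEF hx), fun x hx h1 y hy => hF.2 x (hEF hx) h1 y (hEF hy)⟩
  obtain ⟨⟨u, hu⟩, hu1⟩ := ne_bot_iff_exists_ne_one.1 (show E ≠ ⊥ from fun e => by
    rw [e, card_bot] at hc
    norm_num at hc)
  have hu2 : u ≠ 1 := fun e => hu1 (Subtype.ext e)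
  letI : MulAction (normalizer (E : Set G)) G :=
    MulAction.compHom G ((MulAut.conj : G →* MulAut G).comp (normalizer (E : Set G)).subtype)
  have h1 : MulAction.orbit (normalizer (E : Set G)) u = (E : Set G) \ {1} := by
    ext v
    constructor
    · rintro ⟨g, rfl⟩
      exact ⟨conj_mem_of_norm le_rfl g.2 hu, fun e => hu2 (conj_eq_one_iff.1 e)⟩
    · rintro ⟨hv, hv1⟩
      by_cases e : v = u
      · exact e ▸ MulAction.mem_orbit_self _
      have h2 : v * u ∈ E := E.mul_mem hv hu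
      have e1 : v * u * u = v := by rw [mul_assoc, X.sing_sq hS u hu, mul_one]
      have h3 : v * u ≠ 1 := fun e' => e (by rw [← e1, e', one_mul])
      obtain ⟨q, hq, -, h4⟩ := X.exists_tv (hS.1 _ h2 h3) (A := ⊥) bot_le (hS.2 _ h2 h3 u hu)
        (fun e => hu2 (mem_bot.1 e)) fun e' => hv1 (by
          rw [X.sing_comm hS u hu _ h2, e1] at e'
          exact mem_bot.1 e')
      exact ⟨⟨q, X.QQ_le_norm hS h2 h3 hq⟩, h4.trans e1⟩
  apply X.c127
  have h2 := (MulAction.stabilizer (normalizer (E : Set G)) u).index_dvd_card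
  rw [MulAction.index_stabilizer, h1, Set.ncard_sdiff_singleton_of_mem E.one_mem, ← Nat.card_coe_set_eq] at h2
  have h3 : Nat.card (E : Set G) = 2 ^ (6 + 1) := hc
  rw [h3] at h2
  exact h2.trans (card_subgroup_dvd_card _)

theorem sing5 {F : Subgroup G} (hF : Γ.Sing F) {u v : G} (hu : u ∈ F) (hv : v ∈ F) (hu1 : u ≠ 1) (hv1 : v ≠ 1)
    (huv : v ≠ u) : ¬ 5 ^ 3 ∣ Nat.card (normalizer (F : Set G)) := by
  intro hd
  obtain ⟨P, hP⟩ := exists_syl' Nat.prime_five (normalizer (F : Set G))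
  rw [← hP.dvd_card_iff Nat.prime_five, ← card_inf_mul (centralizer (F : Set G))] at hd
  refine not_cube_mul (fun e => ?_) (fun e => ?_) hd
  · refine X.four u (hF.1 u hu hu1) v (hF.1 v hv hv1) (hF.2 u hu hu1 v hv) huv (e.trans (card_dvd_of_le ?_))
    exact inf_le_left.trans (le_inf (centralizer_le (Set.singleton_subset_iff.2 hu))
      (centralizer_le (Set.singleton_subset_iff.2 hv)))
  · exact absurd (e.trans (gl_dvd Nat.prime_two Nat.prime_five (by norm_num) (X.sing_pg hF) (X.card_sing hF) hP.pg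
      hP.le)) (by decide +kernel)

section baby

variable {t : G} (ht : t * t = 1) (htP : t ∉ Γ.Pt)
include ht htP

omit [Finite G] htP in
/-- the centre of `C_{Q_z}(t)` -/
theorem mem_of_cent {z w : G} (hz : z ∈ Γ.Pt) (htz : t ∈ Γ.QQ z) (hw : w ∈ Γ.QQ z)
    (h : ∀ q ∈ Γ.QQ z, q * t = t * q → q * w = w * q) : w = 1 ∨ w = z ∨ w = t ∨ w = t * z := by
  have B := X.facts.basic
  by_contra hne
  push Not at hne
  obtain ⟨h1, h2, h3, h4⟩ := hne
  have key : ∀ a b : G, b * b = 1 → a * b = 1 → a = b := fun a b hb e => by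
    calc a = a * b * b := by rw [mul_assoc, hb, mul_one]
      _ = b := by rw [e, one_mul]
  obtain ⟨q, hq, h5, h6⟩ := X.exists_tv hz (A := adj ⊥ t ht fun a ha => by rw [mem_bot.1 ha, mul_one, one_mul])
    (adj_le bot_le htz) hw (fun e => e.elim (fun e => h1 (mem_bot.1 e)) fun e => h3 (key _ _ ht (mem_bot.1 e)))
    fun e => e.elim (fun e => h2 (key _ _ (B.pt_sq z hz) (mem_bot.1 e))) fun e => h4 (by
      rw [← key _ _ ht (mem_bot.1 e), mul_assoc, B.pt_sq z hz, mul_one])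
  rw [h q hq (h5 t (Or.inr (by rw [ht]; exact one_mem _))), mul_inv_cancel_right, right_eq_mul] at h6
  exact B.pt_ne z hz h6

omit [Finite G] in
theorem eq_of_cent' {z w : G} (hz : z ∈ Γ.Pt) (htz : t ∈ Γ.QQ z) (hw : w ∈ Γ.QQ z) (hwP : w ∈ Γ.Pt)
    (h : ∀ q ∈ Γ.QQ z, q * t = t * q → q * w = w * q) : w = z := by
  have B := X.facts.basic
  by_contra hne
  rcases X.mem_of_cent ht hz htz hw h with e | e | e | e
  · exact B.pt_ne w hwP e
  · exact hne e
  · exact htP (e ▸ hwP)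
  · have h1 := B.line z hz w hwP (fun e => hne e.symm) hw
    rw [e, B.QQ_comm z hz t htz, ← mul_assoc, B.pt_sq z hz, one_mul] at h1
    exact htP h1

/-- a point which centralises `C_{Q_z}(t)` -/
theorem pt_eq {z w : G} (hz : z ∈ Γ.Pt) (htz : t ∈ Γ.QQ z) (hwP : w ∈ Γ.Pt)
    (h : ∀ q ∈ Γ.QQ z, q * t = t * q → q * w = w * q) : w = z := by
  have B := X.facts.basic
  have A := X.facts.ark
  by_cases hw : w ∈ Γ.QQ z
  · exact X.eq_of_cent' ht htP hz htz hw hwP h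
  exfalso
  rcases X.facts.type z hz w (h z (B.QQ_self z hz) (B.QQ_comm z hz t htz).symm).symm hw (B.pt_sq w hwP) with
    ⟨c, hc, hcz, hwc, h1, -⟩ | ⟨O, hO, hzO, hwO⟩
  · have h2 := X.eq_of_cent' ht htP hz htz hcz hc fun q hq e => h1 q (B.QQ_comm z hz q hq) (h q hq e)
    exact hw (h2 ▸ hwc)
  have h1 : ((O ⊓ Γ.QQ z : Subgroup G) : Set G) ⊆ {1, z, t, t * z} := fun a ha =>
    X.mem_of_cent ht hz htz ha.2 fun q hq e =>
      (mem_centralizer_iff.1 (A.cent_le O hO z hzO hz w hwO hw q hq (h q hq e)) a ha.1).symm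
  have h2 : Nat.card (O ⊓ Γ.QQ z : Subgroup G) ≤ 4 := by
    refine le_trans (Set.ncard_le_ncard h1) ?_
    refine (Set.ncard_insert_le _ _).trans (Nat.succ_le_succ ((Set.ncard_insert_le _ _).trans
      (Nat.succ_le_succ ((Set.ncard_insert_le _ _).trans ?_))))
    rw [Set.ncard_singleton]
  have h3 : ((Γ.QQ z).subgroupOf O).index ∣ 2 := by
    rw [index_dvd_two_iff]
    obtain ⟨a, ha, hav⟩ := A.bet_nondeg O hO z hzO (B.pt_ne z hz)
    refine ⟨⟨a, ha⟩, fun b => ?_⟩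
    rw [mem_subgroupOf, mem_subgroupOf, A.bet_iff O hO z hzO hz _ (b * ⟨a, ha⟩).2, A.bet_iff O hO z hzO hz _ b.2,
      coe_mul, A.bet_mul O hO b b.2 a ha z hzO, hav]
    generalize Γ.bet b z = p
    revert p
    decide
  have h4 := ((Γ.QQ z).subgroupOf O).index_mul_card
  rw [A.card O hO, ← card_map_of_injective O.subtype_injective, subgroupOf_map_subtype, inf_comm] at h4
  have h5 := Nat.mul_le_mul (Nat.le_of_dvd two_pos h3) h2
  omega

/-- **The Baby Monster.** -/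
theorem false_B {T H : Subgroup G} (hT : IsPGroup 2 T) (hC : centralizer (T : Set G) ≤ T) (hTH : T ≤ H)
    (hH : H ≤ normalizer (T : Set G)) (hHt : H ≤ centralizer ({t} : Set G)) (h5 : 5 ^ 3 ∣ Nat.card H)
    (hz : ∀ z ∈ T, z ≠ 1 → z ≠ t → H ≤ centralizer ({z} : Set G) →
      centralizer ({z} : Set G) ⊓ centralizer ({t} : Set G) ≤ H)
    (hmax : ∀ R ≤ H, IsPGroup 2 R → H ≤ normalizer (R : Set G) → R ≤ T)
    {y : G} (hy : y ∈ centralizer ({t} : Set G)) (hyH : y ∉ H) (hyT : T ≤ cj y H) : False := by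
  have B := X.facts.basic
  have A := X.facts.ark
  obtain ⟨F, h0, hFT, -, hn, hF | hF⟩ := X.struct hT hC hH
  · exact X.ark5 F hF (h5.trans (card_dvd_of_le hn))
  obtain ⟨⟨z, hzF⟩, hz1⟩ := ne_bot_iff_exists_ne_one.1 h0
  have hz2 : z ≠ 1 := fun e => hz1 (Subtype.ext e)
  have hzP := hF.1 z hzF hz2
  have hHz : H ≤ centralizer ({z} : Set G) := by
    intro g hg
    by_contra hne
    exact X.sing5 hF hzF (conj_mem_of_norm hn hg hzF) hz2 (fun e => hz2 (conj_eq_one_iff.1 e))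
      (fun e => hne (mem_centralizer_singleton_iff.2 (mul_inv_eq_iff_eq_mul.1 e))) (h5.trans (card_dvd_of_le hn))
  have hzt : z ≠ t := fun e => htP (e ▸ hzP)
  have hN := hz z (hFT hzF) hz2 hzt hHz
  by_cases htz : t ∈ Γ.QQ z
  · have h1 : Γ.QQ z ⊓ centralizer ({t} : Set G) ≤ T := hmax _
      (le_trans (inf_le_inf_right _ fun q hq => mem_centralizer_singleton_iff.2 (B.QQ_comm z hzP q hq)) hN)
      (B.QQ_two z hzP).to_inf_left (norm_inf (hHz.trans (X.norm_QQ hzP))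
        (norm_cent_single fun g hg => mem_centralizer_singleton_iff.1 (hHt hg)))
    have h2 := X.pt_eq ht htP hzP htz (B.pt_conj z hzP y) fun q hq e => by
      have h3 := mem_centralizer_singleton_iff.1 (hHz (mem_cj.1 (hyT (h1 ⟨hq, mem_centralizer_singleton_iff.2 e⟩))))
      calc q * (y * z * y⁻¹) = y * (y⁻¹ * q * y * z) * y⁻¹ := by group
        _ = _ := by rw [h3]; group
    exact hyH (hN ⟨mem_centralizer_singleton_iff.2 (mul_inv_eq_iff_eq_mul.1 h2), hy⟩)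
  have htz' : t * z = z * t := (mem_centralizer_singleton_iff.1 (hHt (hTH (hFT hzF)))).symm
  rcases X.facts.type z hzP t htz' htz ht with ⟨c, hc, hcz, htc, h1, -⟩ | ⟨O, hO, hzO, htO⟩
  · refine X.four z hzP c hc hcz (fun e => htz (e ▸ htc)) (((pow_dvd_pow 5 (by norm_num)).trans h5).trans
      (card_dvd_of_le (le_inf hHz fun g hg => mem_centralizer_singleton_iff.2 ?_)))
    exact h1 g (mem_centralizer_singleton_iff.1 (hHz hg)) (mem_centralizer_singleton_iff.1 (hHt hg))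
  · refine X.ark5 O hO (h5.trans (card_dvd_of_le fun g hg => cj_eq_iff.1 ?_))
    have h1 : g * z * g⁻¹ = z := by rw [mem_centralizer_singleton_iff.1 (hHz hg), mul_inv_cancel_right]
    have h2 : g * t * g⁻¹ = t := by rw [mem_centralizer_singleton_iff.1 (hHt hg), mul_inv_cancel_right]
    refine A.unique _ (A.conj O hO g) O hO z hzP ⟨z, hzO, h1⟩ hzO t ?_ htO htz
    have h3 : cj g (Γ.KK O z) = Γ.KK (cj g O) z := by
      unfold Geo.KK
      rw [cj_sup, cj_inf, cj_centralizer, cj_eq_iff.2 (X.norm_QQ hzP (hHz hg))]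
    rw [← h2]
    exact h3 ▸ conj_mem_cj htO g

end baby

end YF

end Cfsg.Agent.T44.Spor
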