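import Cfsg.Agent.T44.Spor.Act
import Cfsg.Agent.H511.AlmostCyc

/-!
# S3544, sporadic rows: local lemmas on a configuration (helper35)

* `Good Q H Y t` : the prime `t` divides `|L_Y : L_Y ∩ H^z|` for some `z ∈ Y`;
* `NT T t p` : `t`-elements act trivially on the `p`-subgroups of the centralizers of elements of order `t`;
* `not_NT` : `¬ NT T t r` for an odd prime `t ≠ r` dividing `|Lb|`;
* `dich` : the case `t ∣ |Lb|`, `¬ t ∣ |La|`;
* `r_part`, `false_of_count` : Sylow counting in `Lb`.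
-/

set_option autoImplicit false

namespace Cfsg.Agent.T44.Spor

open Subgroup Cfsg
open scoped commutatorElement

variable {G : Type*} [Group G]

/-- `t`-elements act trivially on the `p`-subgroups of the centralizers of elements of order `t` -/
def NT (T : Subgroup G) (t p : ℕ) : Prop :=
  ∀ x ∈ T, orderOf x = t → ∀ w ∈ T, (∃ k : ℕ, w ^ t ^ k = 1) → w * x = x * w → ∀ S : Subgroup G,
    S ≤ T ⊓ centralizer ({x} : Set G) → IsPGroup p S → w ∈ normalizer (S : Set G) → w ∈ centralizer (S : Set G)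

/-- a bound for the centralizers of the elements of order `t` -/
def CB (T : Subgroup G) (t n : ℕ) : Prop :=
  ∀ x ∈ T, orderOf x = t → ¬ n ∣ Nat.card (T ⊓ centralizer ({x} : Set G) : Subgroup G)

/-- the prime `t` divides `|L_Y : L_Y ∩ H^z|` -/
def Good (Q H : Subgroup G) (Y : Set G) (t : ℕ) : Prop := t.Prime ∧ ∃ z ∈ Y, t ∣ (cj z H).relIndex (Lg Q Y)

theorem NT_of_CB [Finite G] {T : Subgroup G} {t p k : ℕ} (ht : t.Prime) (hp : p.Prime) (htp : t ≠ p)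
    (h : CB T t (p ^ (k + 1))) (hj : ∀ j, 0 < j → j ≤ k → ¬ t ∣ p ^ j - 1) : NT T t p := by
  rintro x hx ho w - ⟨l, hl⟩ - S hS hSp hn
  exact le_cent_of_small hp ht htp hSp (isPGroup_zpowers hl) (zpowers_le.2 hn)
    (fun e => h x hx ho (e.trans (card_dvd_of_le hS))) hj (mem_zpowers w)

theorem relIndex_sup_of_norm {A Q : Subgroup G} (hn : A ≤ normalizer (Q : Set G)) :
    Q.relIndex (A ⊔ Q) = Q.relIndex A := by
  have h1 : (Q.subgroupOf (A ⊔ Q)).Normal :=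
    (normal_subgroupOf_iff_le_normalizer le_sup_right).2 (sup_le hn le_normalizer)
  have h2 : A.subgroupOf (A ⊔ Q) ⊔ Q.subgroupOf (A ⊔ Q) = ⊤ := by
    rw [← subgroupOf_sup le_sup_left le_sup_right, subgroupOf_self]
  have h3 := relIndex_sup_right (A.subgroupOf (A ⊔ Q)) (Q.subgroupOf (A ⊔ Q))
  rw [h2, relIndex_top_right, relIndex_subgroupOf le_sup_left] at h3
  exact h3

theorem eq_one_of_pow {r t : ℕ} (hr : r.Prime) (ht : t.Prime) (htr : t ≠ r) {Q : Subgroup G} (hQ : IsPGroup r Q) {x : G}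
    (hx : x ∈ Q) {k : ℕ} (hk : x ^ t ^ k = 1) : x = 1 := by
  obtain ⟨l, hl⟩ := hQ ⟨x, hx⟩
  have h1 : x ^ r ^ l = 1 := congrArg Subtype.val hl
  have h2 : orderOf x ∣ Nat.gcd (t ^ k) (r ^ l) :=
    Nat.dvd_gcd (orderOf_dvd_of_pow_eq_one hk) (orderOf_dvd_of_pow_eq_one h1)
  rw [Nat.Coprime.pow _ _ ((Nat.coprime_primes ht hr).2 htr), Nat.dvd_one] at h2
  exact orderOf_eq_one_iff.1 h2

theorem pow_of_pg {t : ℕ} {P : Subgroup G} (hP : IsPGroup t P) {x : G} (hx : x ∈ P) : ∃ k : ℕ, x ^ t ^ k = 1 := by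
  obtain ⟨l, hl⟩ := hP ⟨x, hx⟩
  exact ⟨l, congrArg Subtype.val hl⟩

/-- the `p`-part of `|A Q|` -/
theorem pow_dvd_of_sup [Finite G] {r p k : ℕ} (hr : r.Prime) (hp : p.Prime) (hpr : p ≠ r) {A Q : Subgroup G}
    (hQ : IsPGroup r Q) (hn : Q ≤ normalizer (A : Set G)) (h : p ^ k ∣ Nat.card (A ⊔ Q : Subgroup G)) :
    p ^ k ∣ Nat.card A := by
  rw [← card_mul_relIndex (le_sup_left : A ≤ A ⊔ Q)] at h
  exact (Nat.Coprime.pow_left k ((Nat.Prime.coprime_iff_not_dvd hp).2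
    (not_dvd_relIndex_sup hp hr hpr hQ hn))).dvd_of_dvd_mul_right h

/-- Sylow counting modulo the core -/
theorem le_core [Finite G] {r : ℕ} (hr : r.Prime) {A U : Subgroup G} (hU : IsPGroup r U) (hUA : U ≤ A)
    (hn : A ≤ normalizer (U : Set G)) (h2 : ¬ r ^ 2 ∣ A.normalCore.index)
    (hc : ∀ c, c ∣ A.index → c ≡ 1 [MOD r] → c = 1) : U ≤ A.normalCore := by
  have : Fact r.Prime := ⟨hr⟩
  set π := QuotientGroup.mk' A.normalCore with hπ
  have hker : π.ker = A.normalCore := QuotientGroup.ker_mk' _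
  have hsurj : Function.Surjective π := QuotientGroup.mk'_surjective _
  by_contra hcon
  have h1 : IsPGroup r (U.map π) := hU.map π
  have h3 : r ∣ Nat.card (U.map π) := by
    obtain ⟨k, hk⟩ := h1.exists_card_eq
    cases k with
    | zero =>
      exfalso
      apply hcon
      rw [← hker, ← Subgroup.map_eq_bot_iff]
      exact card_eq_one.1 hk
    | succ k => rw [hk]; exact dvd_pow_self r (Nat.succ_ne_zero k)
  have h4 : ¬ r ∣ (U.map π).index := by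
    intro e
    apply h2
    rw [index_eq_card, ← card_mul_index (U.map π), pow_two]
    exact mul_dvd_mul h3 e
  let P : Sylow r (G ⧸ A.normalCore) := h1.toSylow h4
  have h5 : A.map π ≤ normalizer (U.map π : Set (G ⧸ A.normalCore)) := by
    refine norm_of_conj ?_
    rintro _ ⟨a, ha, rfl⟩ _ ⟨u, hu, rfl⟩
    exact ⟨_, conj_mem_of_norm hn ha hu, by rw [map_mul, map_mul, map_inv]⟩
  have h6 : (normalizer (U.map π : Set (G ⧸ A.normalCore))).index = 1 := by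
    apply hc
    · rw [← index_map_eq (H := A) hsurj (hker.le.trans (normalCore_le A))]
      exact index_dvd_of_le h5
    · have h7 := P.card_eq_index_normalizer
      have h8 := card_sylow_modEq_one r (G ⧸ A.normalCore)
      rw [h7] at h8
      exact h8
  have h7 : (U.map π).Normal := normalizer_eq_top_iff.1 (index_eq_one.1 h6)
  have h8 : ((U.map π).comap π).Normal := h7.comap π
  apply hcon
  refine (le_comap_map π U).trans (normal_le_normalCore.2 ?_)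
  rw [comap_map_eq, hker]
  exact sup_le hUA (normalCore_le A)

theorem core_index_dvd [Finite G] (A : Subgroup G) : A.normalCore.index ∣ A.index.factorial := by
  rw [normalCore_eq_ker, index_ker, index_eq_card, ← Nat.card_perm]
  exact card_subgroup_dvd_card (MulAction.toPermHom G (G ⧸ A)).range

section cfg

variable {T H Q : Subgroup G} {r : ℕ} {Ya Yb : Set G} {da db : ℕ} (h : Cfg T H Q r Ya Yb da db) [Finite G]

include h

omit [Finite G] in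
/-- `t`-elements of `M` act faithfully on `Q` -/
theorem faith {t : ℕ} (ht : t.Prime) (htr : t ≠ r) {P : Subgroup G} (hP : IsPGroup t P) (hM : P ≤ T ⊓ H) :
    ∀ x ∈ P, x ∈ centralizer (Q : Set G) → x = 1 := fun _ hx hc =>
  (pow_of_pg hP hx).elim fun _ hk => eq_one_of_pow h.prime ht htr h.isO.pg (h.cent ⟨hM hx, hc⟩) hk

theorem not_pow_dvd_Q {m : ℕ} (hm : ¬ r ^ (m + 4) ∣ Nat.card T) : ¬ r ^ (m + 1) ∣ Nat.card Q := by
  intro e
  apply hm
  refine Dvd.dvd.trans ?_ (card_dvd_of_le (inf_le_left : T ⊓ H ≤ T))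
  rw [← card_mul_relIndex h.Q_le_M, show m + 4 = m + 1 + 3 by ring, pow_add]
  exact mul_dvd_mul e h.N0

theorem pow_four_dvd : r ^ 4 ∣ Nat.card T := by
  by_contra hc
  have : Fact r.Prime := ⟨h.prime⟩
  obtain ⟨k, hk⟩ := h.isO.pg.exists_card_eq
  cases k with
  | zero => exact h.Q_ne (card_eq_one.1 hk)
  | succ k => exact not_pow_dvd_Q h (m := 0) hc (hk ▸ pow_dvd_pow r (by omega))

theorem pow_dvd_GLp {m p k : ℕ} (hm : ¬ r ^ (m + 1) ∣ Nat.card Q) (hp : p.Prime) (hpr : p ≠ r)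
    (hk : p ^ k ∣ Nat.card (T ⊓ H : Subgroup G)) : p ^ k ∣ GLp r m := by
  obtain ⟨P, hP⟩ := exists_syl' hp (T ⊓ H)
  exact ((hP.dvd_card_iff hp).2 hk).trans
    (card_dvd_GLp h.prime hp hpr h.isO.pg hm hP.pg (hP.le.trans h.isO.norm) (faith h hp hpr hP.pg hP.le))

theorem succ_dvd_M {t k : ℕ} (ht : t.Prime) (hd : t ∣ Nat.card (Lg Q Yb)) (hk : t ^ k ∣ Nat.card (Lg Q Yb)) :
    t ^ (k + 1) ∣ Nat.card (T ⊓ H : Subgroup G) := by
  obtain ⟨y, hy⟩ := h.A.ne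
  exact (h.mul_dvd ht hd hy hk).trans (card_dvd_of_le inf_le_left)

/-- **F1** -/
theorem exists_pair_b {t : ℕ} (ht : t.Prime) (htr : t ≠ r) (ht2 : t ≠ 2) (hd : t ∣ Nat.card (Lg Q Yb)) :
    ∃ x ∈ T ⊓ H, ∃ w ∈ T ⊓ H, orderOf x = t ∧ w ^ t = 1 ∧ w * x = x * w ∧
      w ∉ centralizer ((Q ⊓ centralizer ({x} : Set G) : Subgroup G) : Set G) := by
  have : Fact t.Prime := ⟨ht⟩
  obtain ⟨y, hy⟩ := h.A.ne
  obtain ⟨P, hP⟩ := exists_syl' ht (T ⊓ H ⊓ cj y H)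
  have hPM : P ≤ T ⊓ H := hP.le.trans inf_le_left
  have hnc : ¬ IsCyclic P := by
    intro hc
    rcases H511.AC.le_or_le_of_cyclic (A := Gen t (Lg Q Yb) ⊓ P) (B := cj y (Gen t (Lg Q Yb)) ⊓ P) hc inf_le_right
      inf_le_right hP.pg.to_inf_right hP.pg.to_inf_right with e | e
    · exact h.not_syl_K_le ht hd hy hP (e.trans inf_le_left)
    · exact h.not_syl_cj_K_le ht hd hy hP (e.trans (inf_le_left.trans Gen_le))
  obtain ⟨x, hx, w, hw, h1⟩ := exists_pair h.prime ht htr ht2 h.isO.pg hP.pg hnc (hPM.trans h.isO.norm)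
    (faith h ht htr hP.pg hPM)
  exact ⟨x, hPM hx, w, hPM hw, h1⟩

theorem not_NT {t : ℕ} (ht : t.Prime) (htr : t ≠ r) (ht2 : t ≠ 2) (hd : t ∣ Nat.card (Lg Q Yb)) : ¬ NT T t r := by
  intro hN
  obtain ⟨x, hx, w, hw, h1, h2, h3, h4⟩ := exists_pair_b h ht htr ht2 hd
  refine h4 (hN x hx.1 h1 w hw.1 ⟨1, by rwa [pow_one]⟩ h3 _ (inf_le_inf_right _ h.Q_le_T) h.isO.pg.to_inf_left ?_)
  exact norm_inf (zpowers_le.2 (h.isO.norm hw)) (norm_cent_single (by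
    rintro _ ⟨i, rfl⟩
    exact ((show Commute w x from h3).zpow_left i).eq)) (mem_zpowers w)

/-- **the case `t ∣ |Lb|`, `¬ t ∣ |La|`** -/
theorem dich {t : ℕ} (ht : t.Prime) (htr : t ≠ r) (hd : t ∣ Nat.card (Lg Q Yb)) (hn : ¬ t ∣ Nat.card (Lg Q Ya)) :
    ∃ p : ℕ, p.Prime ∧ p ≠ r ∧ p ≠ t ∧ ∃ u0 ∈ Lg Q Yb, orderOf u0 = t ∧ ∃ u ∈ T ⊓ H, (∃ k : ℕ, u ^ t ^ k = 1) ∧
      u * u0 = u0 * u ∧ ∃ S : Subgroup G, S ≤ (Lg Q Ya ⊔ Q) ⊓ centralizer ({u0} : Set G) ∧ IsPGroup p S ∧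
        u ∈ normalizer (S : Set G) ∧ u ∉ centralizer (S : Set G) := by
  have : Fact t.Prime := ⟨ht⟩
  obtain ⟨y, hy⟩ := h.A.ne
  obtain ⟨P, hP⟩ := exists_syl' ht (T ⊓ H ⊓ cj y H)
  have hPM : P ≤ T ⊓ H := hP.le.trans inf_le_left
  obtain ⟨u, hu, huc⟩ := h.exists_u ht hd hy htr hP
  obtain ⟨u0, hu0, ho, hc⟩ := h.exists_u0 ht hd hy hP
  have hu0b : u0 ∈ Lg Q Yb := Gen_le hu0.1
  by_contra hcon
  push Not at hcon
  set B : Subgroup G := Lg Q Ya ⊔ Q with hB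
  set X : Subgroup G := B ⊓ centralizer ({u0} : Set G) with hX
  have hBM : B ≤ T ⊓ H := sup_le h.La_le_M h.Q_le_M
  have hMB : T ⊓ H ≤ normalizer (B : Set G) := norm_sup h.M_norm_La h.isO.norm
  have hQa : Q ≤ normalizer (Lg Q Ya : Set G) := h.Q_le_M.trans h.M_norm_La
  have htX : ¬ t ∣ Nat.card X := fun e => hn (by
    have := pow_dvd_of_sup (k := 1) h.prime ht htr h.isO.pg hQa (by
      rw [pow_one]; exact e.trans (card_dvd_of_le inf_le_left))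
    rwa [pow_one] at this)
  have hUP : zpowers u ≤ P := zpowers_le.2 hu.2
  have hUp : IsPGroup t (zpowers u) := hP.pg.to_le hUP
  have hUX : zpowers u ≤ normalizer (X : Set G) :=
    norm_inf ((hUP.trans hPM).trans hMB) (norm_cent_single fun g hg => hc g (hUP hg))
  have hsyl : ∀ p : ℕ, p.Prime → ∃ S : Subgroup G, Syl p S X ∧ zpowers u ≤ normalizer (S : Set G) := by
    intro p hp
    have : Fact p.Prime := ⟨hp⟩
    obtain ⟨k, hk⟩ := hUp.exists_card_eq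
    have hnil := hUp.isNilpotent
    obtain ⟨S, hS⟩ := Cfsg.Agent.S0023.result (zpowers u) X hUX (by
      rw [hk]; exact Nat.Coprime.pow_left k ((Nat.Prime.coprime_iff_not_dvd ht).2 htX)) (Or.inl inferInstance) p
    refine ⟨_, ⟨map_subtype_le _, S.isPGroup'.map _, ?_⟩, hS⟩
    rw [relIndex, Lib.LocalCore.subgroupOf_map_subtype_self]
    exact S.not_dvd_index
  obtain ⟨R, hR, hRn⟩ := hsyl r h.prime
  have hcop : (R.relIndex X).Coprime ((centralizer (zpowers u : Set G)).relIndex X) := by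
    refine Nat.coprime_of_dvd fun p hp h1 h2 => ?_
    have hpr : p ≠ r := fun e => hR.idx (e ▸ h1)
    have hpt : p ≠ t := fun e => htX (e ▸ h1.trans (relIndex_dvd_card _ _))
    obtain ⟨S, hS, hSn⟩ := hsyl p hp
    have h3 := hcon p hp hpr hpt u0 hu0b ho u (hPM hu.2) (pow_of_pg hP.pg hu.2) (hc u hu.2) S hS.le hS.pg
      (hSn (mem_zpowers u))
    exact hS.idx (h2.trans (relIndex_dvd_of_le_left X (le_cent_comm (zpowers_le.2 h3))))
  have hW : ⁅X, zpowers u⁆ ≤ R := by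
    rw [commutator_le]
    intro x hx a ha
    obtain ⟨ρ, hρ, c, hc', rfl⟩ := exists_mul_of_coprime hcop hx
    have h1 : a * c = c * a := mem_centralizer_iff.1 hc'.2 a ha
    have e : ⁅ρ * c, a⁆ = ρ * (a * ρ⁻¹ * a⁻¹) := by
      rw [commutatorElement_def]
      calc ρ * c * a * (ρ * c)⁻¹ * a⁻¹ = ρ * (c * a) * c⁻¹ * ρ⁻¹ * a⁻¹ := by group
        _ = ρ * (a * ρ⁻¹ * a⁻¹) := by rw [← h1]; group
    rw [e]
    exact R.mul_mem hρ.2 (conj_mem_of_norm hRn ha (R.inv_mem hρ.2))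
  have hXB : X ≤ B := inf_le_left
  have hWB : ⁅X, zpowers u⁆ ≤ B := hW.trans (hR.le.trans hXB)
  have hcov : ∀ x ∈ Lg Q Ya, ∃ c ∈ X, ∃ q ∈ Q, x = c * q := by
    intro x hx
    obtain ⟨c, hc', q, hq, e⟩ := h.La_cover ht htr (U := zpowers u0) (hP.pg.to_le (zpowers_le.2 hu0.2))
      (zpowers_le.2 (h.Lb_le_Ca hu0b)) hx
    refine ⟨c, ⟨?_, mem_centralizer_singleton_iff.2 (mem_centralizer_iff.1 hc'.2 u0 (mem_zpowers u0)).symm⟩, q, hq, e⟩
    have : c = x * q⁻¹ := by rw [e, mul_inv_cancel_right]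
    rw [this]
    exact mul_mem (mem_sup_left hx) (mem_sup_right (inv_mem hq))
  have hle : ⁅X, zpowers u⁆ ⊔ Q ≤ Q := by
    refine h.isO.le_of_sub hBM hMB (sup_le hWB le_sup_right)
      (isPGroup_sup (hR.pg.to_le hW) h.isO.pg ((hWB.trans hBM).trans h.isO.norm)) (sup_le ?_ ?_)
    · intro x hx
      obtain ⟨c, hc', q, hq, rfl⟩ := hcov x hx
      refine mul_mem ?_ (le_normalizer (mem_sup_right hq))
      exact norm_sup (normalizer_commutator_ge_left _ _) ((hXB.trans hBM).trans h.isO.norm) hc'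
    · exact le_sup_right.trans le_normalizer
  refine huc ⟨hPM hu.2, fun x hx => ?_⟩
  obtain ⟨c, hc', q, hq, rfl⟩ := hcov x hx
  have e : ⁅c * q, u⁆ = c * (q * (u * q⁻¹ * u⁻¹)) * c⁻¹ * ⁅c, u⁆ := by simp only [commutatorElement_def]; group
  rw [e]
  refine Q.mul_mem (conj_mem_of_norm h.isO.norm (hBM (hXB hc')) (Q.mul_mem hq
    (conj_mem_of_norm h.isO.norm (hPM hu.2) (Q.inv_mem hq)))) ?_
  exact hle (mem_sup_left (commutator_mem_commutator hc' (mem_zpowers u)))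

/-- the `r`-part of `|Lb : Lb ∩ Q|` -/
theorem r_part {k : ℕ} (hk : r ^ k ∣ Q.relIndex (Lg Q Yb)) : r ^ (k + 2) ∣ Q.relIndex (T ⊓ H) := by
  obtain ⟨y, hy⟩ := h.A.ne
  obtain ⟨R, hR⟩ := exists_syl' h.prime (T ⊓ H ⊓ cj y H)
  obtain ⟨h1, -, h3⟩ := h.chain hy hR
  have hBD : Lg Q Yb ⊔ Q ≤ T ⊓ H ⊓ cj y H := sup_le (h.Lb_le_D hy) (h.Q_le_D hy)
  have hMB : T ⊓ H ≤ normalizer ((Lg Q Yb ⊔ Q : Subgroup G) : Set G) := norm_sup h.M_norm_Lb h.isO.norm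
  have hS : Syl r ((Lg Q Yb ⊔ Q) ⊓ R) (Lg Q Yb ⊔ Q) := hR.inf hBD (inf_le_left.trans hMB)
  have hQS : Q ≤ (Lg Q Yb ⊔ Q) ⊓ R := le_inf le_sup_right (le_sup_left.trans h1)
  have a1 : r ^ k ∣ Q.relIndex ((Lg Q Yb ⊔ Q) ⊓ R) := by
    rw [← relIndex_sup_of_norm (h.Lb_le_M.trans h.isO.norm), ← relIndex_mul_relIndex Q _ _ hQS inf_le_left] at hk
    exact (Nat.Coprime.pow_left k ((Nat.Prime.coprime_iff_not_dvd h.prime).2 hS.idx)).dvd_of_dvd_mul_right hk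
  have hF : (Lg Q Yb ⊔ Q) ⊓ R ≤ (Lg Q Yb ⊔ (Q ⊔ cj y Q)) ⊓ R :=
    inf_le_inf_right R (sup_le_sup_left le_sup_left _)
  have a2 : r ∣ ((Lg Q Yb ⊔ Q) ⊓ R).relIndex ((Lg Q Yb ⊔ (Q ⊔ cj y Q)) ⊓ R) := by
    refine dvd_relIndex_of_not_le h.prime hR.pg.to_inf_right fun e => ?_
    refine h.not_le_cj_of (hBD.trans inf_le_left) hMB (h.A.notMem y hy) ?_ (hBD.trans inf_le_right)
    exact (le_inf (le_sup_right.trans le_sup_right) (le_sup_right.trans h1)).trans (e.trans inf_le_left)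
  have a3 : r ∣ ((Lg Q Yb ⊔ (Q ⊔ cj y Q)) ⊓ R).relIndex R :=
    dvd_relIndex_of_not_le h.prime hR.pg fun e => h3 (inf_le_right.trans (e.trans inf_le_left))
  rw [← relIndex_mul_relIndex Q R (T ⊓ H) (le_sup_left.trans h1) (hR.le.trans inf_le_left),
    ← relIndex_mul_relIndex Q _ R (hQS.trans hF) inf_le_right, ← relIndex_mul_relIndex Q _ _ hQS hF]
  refine Dvd.dvd.mul_right ?_ _
  rw [pow_succ, pow_succ]
  exact mul_dvd_mul (mul_dvd_mul a1 a2) a3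

/-- **Sylow counting** -/
theorem false_of_count {z : G} (hz : z ∈ Yb)
    (h2 : ¬ r ^ 2 ∣ ((cj z H).relIndex (Lg Q Yb)).factorial ∨ ¬ r ^ 2 ∣ Q.relIndex (Lg Q Yb))
    (hc : ∀ c, c ∣ (cj z H).relIndex (Lg Q Yb) → c ≡ 1 [MOD r] → c = 1) : False := by
  set B := Lg Q Yb with hB
  set A : Subgroup B := (cj z H).subgroupOf B with hA
  have hzB : cj z Q ≤ B := cj_le_Lg hz
  have hQN : Q.subgroupOf B ≤ A.normalCore := by
    have : (Q.subgroupOf B).Normal := ⟨fun q hq b => conj_mem_of_norm h.isO.norm (h.Lb_le_M b.2) hq⟩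
    exact normal_le_normalCore.2 fun q hq => h.symm.Q_le_cj hz hq
  have hDn : ∀ a : G, a ∈ B → a ∈ cj z H → a ∈ normalizer (cj z Q : Set G) := fun a ha ha' =>
    h.D_norm_cj_Q z ⟨h.Lb_le_M ha, ha'⟩
  have h1 : (cj z Q).subgroupOf B ≤ A.normalCore := by
    refine le_core h.prime (isPGroup_cj z h.isO.pg).comap_subtype (fun q hq => cj_mono z h.Q_le_H hq)
      (norm_of_conj fun a ha x hx => conj_mem_of_norm (G := G) le_rfl (hDn a a.2 ha) hx) ?_ hc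
    rcases h2 with h2 | h2
    · exact fun e => h2 (e.trans (core_index_dvd A))
    · exact fun e => h2 (e.trans (index_dvd_of_le hQN))
  have h3 : cj z Q ≤ B ⊓ Q := by
    refine (h.isO.inf h.Lb_le_M h.M_norm_Lb).le_of_sub (L := A.normalCore.map B.subtype) (map_subtype_le _)
      (norm_of_conj ?_) (fun q hq => ⟨⟨q, hzB hq⟩, h1 hq, rfl⟩) (isPGroup_cj z h.isO.pg) ?_
    · rintro b hb _ ⟨x, hx, rfl⟩
      exact ⟨_, A.normalCore_normal.conj_mem x hx ⟨b, hb⟩, rfl⟩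
    · rintro _ ⟨x, hx, rfl⟩
      exact hDn x x.2 (normalCore_le A hx)
  exact h.not_cj_Q_le (h.B.notMem z hz) (h3.trans inf_le_right)

/-! ### Good primes -/

theorem Good.dvd_db {t : ℕ} (g : Good Q H Yb t) : t ∣ db := by
  obtain ⟨-, z, hz, e⟩ := g
  exact e.trans (h.symm.idx_La_dvd hz)

theorem Good.ne {t : ℕ} (g : Good Q H Yb t) : t ≠ r := fun e => h.rb (e ▸ g.dvd_db h)

omit h [Finite G] in
theorem Good.dvd_card {t : ℕ} (g : Good Q H Yb t) : t ∣ Nat.card (Lg Q Yb) := by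
  obtain ⟨-, z, -, e⟩ := g
  exact e.trans (relIndex_dvd_card _ _)

theorem Good.ne_of {s t : ℕ} (g : Good Q H Yb t) (g' : Good Q H Ya s) : s ≠ t := by
  rintro rfl
  exact g.1.one_lt.ne' (Nat.eq_one_of_dvd_coprimes h.cop (g'.dvd_db h.symm) (g.dvd_db h))

theorem exists_good : ∃ t, Good Q H Yb t := by
  obtain ⟨z, hz⟩ := h.B.ne
  obtain ⟨t, ht, -, -, h1, -⟩ := h.symm.exists_prime_a hz
  exact ⟨t, ht, z, hz, h1⟩

theorem Good.sq_dvd {t : ℕ} (g : Good Q H Yb t) : t ^ 2 ∣ Nat.card (T ⊓ H : Subgroup G) :=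
  succ_dvd_M h g.1 g.dvd_card (k := 1) (by rw [pow_one]; exact g.dvd_card)

theorem Good.cube_dvd {t : ℕ} (g : Good Q H Yb t) (ha : t ∣ Nat.card (Lg Q Ya)) :
    t ^ 3 ∣ Nat.card (T ⊓ H : Subgroup G) := by
  obtain ⟨ht, z, hz, e⟩ := g
  exact h.symm.cube_dvd ht ha hz (e.trans (H408.Core.relIndex_dvd_of_le_normalizer _ h.Lb_le_M h.M_norm_Lb))

/-- the index is a power of the only good prime -/
theorem idx_eq_pow {t : ℕ} (ht : ∀ s, Good Q H Yb s → s = t) {z : G} (hz : z ∈ Yb) :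
    ∃ j, 0 < j ∧ (cj z H).relIndex (Lg Q Yb) = t ^ j := by
  have h1 := Nat.eq_prime_pow_of_unique_prime_dvd (relIndex_ne_zero' (cj z H) (Lg Q Yb))
    (fun {s} hs hd => ht s ⟨hs, z, hz, hd⟩)
  refine ⟨_, Nat.pos_of_ne_zero fun e => ?_, h1⟩
  rw [e, pow_zero] at h1
  exact h.symm.not_La_le hz (relIndex_eq_one.1 h1)

/-- the cube lemma -/
theorem not_cube {t m k : ℕ} (ht : t.Prime) (htr : t ≠ r) (ht2 : t ≠ 2) (hm : ¬ r ^ (m + 1) ∣ Nat.card Q)
    (ha : CB T t (r ^ (k + 1))) (ha' : ¬ t ^ 2 ∣ GLp r k) (hb : ∀ i, 0 < i → i ≤ m → ¬ t ^ 2 ∣ r ^ i - 1)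
    (hj : ∀ i, 0 < i → i * t ≤ m → ¬ t ∣ r ^ i - 1) : ¬ t ^ 3 ∣ Nat.card (T ⊓ H : Subgroup G) := by
  intro h3
  obtain ⟨P, hP⟩ := exists_syl' ht (T ⊓ H)
  exact false_of_cube h.prime ht htr ht2 h.isO.pg hm hP.pg ((hP.dvd_card_iff ht).2 h3) (hP.le.trans h.isO.norm)
    (faith h ht htr hP.pg hP.le) (fun x hx ho e => ha x (hP.le hx).1 ho
      (e.trans (card_dvd_of_le (inf_le_inf_right _ h.Q_le_T)))) ha' hb hj

/-- the numerical form of the dichotomy -/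
theorem Good.dich' {t : ℕ} (g : Good Q H Yb t) : t ^ 3 ∣ Nat.card (T ⊓ H : Subgroup G) ∨
    ∃ p : ℕ, p.Prime ∧ p ≠ r ∧ p ≠ t ∧ ¬ NT T t p ∧ p ∣ Nat.card (Lg Q Ya) ∧
      ∃ j, 0 < j ∧ t ∣ p ^ j - 1 ∧ p ^ (j + 1) ∣ Nat.card (T ⊓ H : Subgroup G) := by
  by_cases ha : t ∣ Nat.card (Lg Q Ya)
  · exact Or.inl (g.cube_dvd h ha)
  right
  obtain ⟨p, hp, hpr, hpt, u0, hu0, ho, u, hu, ⟨k, hk⟩, hc, S, hS, hSp, hn, hnc⟩ :=
    dich h g.1 (g.ne h) g.dvd_card ha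
  obtain ⟨j, hj, h1, h2⟩ := exists_mod hp g.1 hpt.symm hSp (isPGroup_zpowers hk) (zpowers_le.2 hn)
    fun e => hnc (e (mem_zpowers u))
  have h3 : p ^ j ∣ Nat.card (Lg Q Ya) := pow_dvd_of_sup h.prime hp hpr h.isO.pg (h.Q_le_M.trans h.M_norm_La)
    ((h2 ▸ dvd_mul_right _ _ : p ^ j ∣ Nat.card S).trans (card_dvd_of_le (hS.trans inf_le_left)))
  have h4 : p ∣ Nat.card (Lg Q Ya) := (dvd_pow_self p hj.ne').trans h3
  refine ⟨p, hp, hpr, hpt, fun hN => hnc (hN u0 (h.Lb_le_M hu0).1 ho u hu.1 ⟨k, hk⟩ hc S ?_ hSp hn), h4, j, hj, h1,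
    succ_dvd_M h.symm hp h4 h3⟩
  exact hS.trans (inf_le_inf_right _ ((sup_le h.La_le_M h.Q_le_M).trans inf_le_left))

end cfg

end Cfsg.Agent.T44.Spor
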